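import Mathlib
import Cfsg.Agent.S0003
import Cfsg.Agent.Solvable.FpfComplement
import Cfsg.Agent.SolvableStructure.MinimalNormal
import Cfsg.Agent.Lib.SubnormalJoin
import Cfsg.Agent.FastGrp
import Cfsg.Agent.Prune
set_option linter.all false
prune_inst 0x7f00000000000000000000000000000000000000000000000000000000000000000000000000000000000000000000000000000000000000000000000000000000000000000000000000000000000000003fffffffffffffffffffffffffffbeffbdffffffff
open scoped Cfsg.Agent.FastGrp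

/-!
# Lucido's lemma

In a finite soluble group, among any three distinct primes dividing the order there are two, `a`
and `b`, such that the group has an element of order `a * b`.
-/

set_option autoImplicit false

universe u

namespace Cfsg.Agent.H431.Lucido

open Subgroup

/-- elements of order `n` lift along surjections of finite groups -/
theorem exists_orderOf_of_surjective {G H : Type*} [Group G] [Finite G] [Group H] (f : G →* H)
    (hf : Function.Surjective f) (y : H) : ∃ x : G, orderOf x = orderOf y := by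
  obtain ⟨x, rfl⟩ := hf y
  have h1 : orderOf (f x) ∣ orderOf x := orderOf_map_dvd f x
  obtain ⟨k, hk⟩ := h1
  have hx0 : 0 < orderOf x := orderOf_pos x
  have hk0 : k ≠ 0 := by
    rintro rfl
    rw [mul_zero] at hk
    omega
  refine ⟨x ^ k, ?_⟩
  rw [orderOf_pow_of_dvd hk0 (Dvd.intro_left _ hk.symm), hk]
  exact Nat.mul_div_cancel _ (Nat.pos_of_ne_zero hk0)

/-- the product of two commuting elements of distinct prime orders -/
theorem orderOf_mul_primes {G : Type*} [Group G] {x y : G} {p q : ℕ} (hp : p.Prime) (hq : q.Prime)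
    (hpq : p ≠ q) (hx : orderOf x = p) (hy : orderOf y = q) (hc : Commute x y) :
    orderOf (x * y) = p * q := by
  rw [hc.orderOf_mul_eq_mul_orderOf_of_coprime, hx, hy]
  rw [hx, hy]
  exact (Nat.coprime_primes hp hq).2 hpq

/-- Abstract form: a soluble group `K` with an elementary abelian `q`-subgroup `M ≠ 1` normal in
`K`, an element `y` of order `r`, acting on a non-trivial abelian group of exponent `p`. -/
theorem core {K V : Type*} [Group K] [Finite K] [CommGroup V] [Nontrivial V] (φ : K →* MulAut V)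
    {p q r : ℕ} (hp : p.Prime) (hq : q.Prime) (hr : r.Prime) (hpq : p ≠ q) (hqr : q ≠ r)
    (hV : ∀ v : V, v ^ p = 1) (M : Subgroup K) [M.Normal] (hM : M ≠ ⊥) {d : ℕ}
    (hMc : Nat.card M = q ^ d) (hMq : ∀ a ∈ M, a ^ q = 1) {y : K} (hy : orderOf y = r) :
    (∃ x : K, orderOf x = q * r) ∨
      (∃ (x : K) (v : V), orderOf x = q ∧ v ≠ 1 ∧ φ x v = v) ∨
      (∃ (x : K) (v : V), orderOf x = r ∧ v ≠ 1 ∧ φ x v = v) := by
  by_contra hcon
  push Not at hcon
  obtain ⟨h1, h2, h3⟩ := hcon
  have hMo : ∀ a ∈ M, a ≠ 1 → orderOf a = q := fun a ha ha1 =>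
    orderOf_eq_prime (hp := ⟨hq⟩) (hMq a ha) ha1
  have hBo : ∀ b ∈ zpowers y, b ≠ 1 → orderOf b = r := by
    intro b hb hb1
    have h4 : orderOf b ∣ r := by
      obtain ⟨k, rfl⟩ := hb
      rw [← hy]
      exact orderOf_dvd_of_pow_eq_one (by rw [← zpow_natCast, ← zpow_mul, mul_comm, zpow_mul, zpow_natCast,
        pow_orderOf_eq_one, one_zpow])
    rcases (Nat.dvd_prime hr).1 h4 with h5 | h5
    · exact absurd (orderOf_eq_one_iff.1 h5) hb1
    · exact h5
  obtain ⟨v, hv⟩ := exists_ne (1 : V)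
  have key := Solvable.FpfComplement.pow_card_eq_one φ M (zpowers y)
    (fun b _ n hn => (inferInstance : M.Normal).conj_mem n hn b)
    (by
      intro b hb hb1 n hn hc
      by_contra hn1
      exact h1 (n * b) (orderOf_mul_primes hq hr hqr (hMo n hn hn1) (hBo b hb hb1) hc))
    (by
      intro w hw
      by_contra hw1
      obtain ⟨⟨a, ha⟩, ha1⟩ := (Subgroup.ne_bot_iff_exists_ne_one).1 hM
      exact h2 a w (hMo a ha fun h => ha1 (Subtype.ext h)) hw1 (hw a ha))
    (by
      intro w hw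
      by_contra hw1
      exact h3 y w hy hw1 (hw y (mem_zpowers y))) v
  rw [hMc] at key
  apply hv
  have h6 : orderOf v ∣ q ^ d := orderOf_dvd_of_pow_eq_one key
  have h7 : orderOf v ∣ p := orderOf_dvd_of_pow_eq_one (hV v)
  have h8 : Nat.Coprime (q ^ d) p := Nat.Coprime.pow_left d ((Nat.coprime_primes hq hp).2 (Ne.symm hpq))
  exact orderOf_eq_one_iff.1 (Nat.eq_one_of_dvd_coprimes h8 h6 h7)

/-- There is a subgroup whose order is divisible by exactly the primes `q`, `r`. -/
theorem exists_hall {G : Type*} [Group G] [Finite G] [Group.IsSolvable G] {q r : ℕ} (hq : q.Prime)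
    (hr : r.Prime) (hqr : q ≠ r) (hqG : q ∣ Nat.card G) (hrG : r ∣ Nat.card G) :
    ∃ K : Subgroup G, q ∣ Nat.card K ∧ r ∣ Nat.card K ∧
      ∀ s : ℕ, s.Prime → s ∣ Nat.card K → s = q ∨ s = r := by
  have h0 : Nat.card G ≠ 0 := Nat.card_pos.ne'
  set n := Nat.card G with hn
  have hq1 : q ∣ ordProj[q] n := by
    have : n.factorization q ≠ 0 := (hq.factorization_pos_of_dvd h0 hqG).ne'
    exact dvd_pow_self q this
  have hr1 : r ∣ ordProj[r] n := by
    have : n.factorization r ≠ 0 := (hr.factorization_pos_of_dvd h0 hrG).ne'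
    exact dvd_pow_self r this
  obtain ⟨m, hm⟩ : ordProj[q] n * ordProj[r] n ∣ n := by
    refine Nat.Coprime.mul_dvd_of_dvd_of_dvd ?_ (Nat.ordProj_dvd n q) (Nat.ordProj_dvd n r)
    exact Nat.Coprime.pow _ _ ((Nat.coprime_primes hq hr).2 hqr)
  have hm0 : m ≠ 0 := by
    rintro rfl
    exact h0 (by rw [hm, mul_zero])
  have hcop : ∀ s : ℕ, s.Prime → (s = q ∨ s = r) → ¬ s ∣ m := by
    intro s hs hsqr hsm
    have h1 : ordProj[s] n * s ∣ n := by
      have h2 : ordProj[s] n * s ∣ ordProj[q] n * ordProj[r] n * m := by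
        rcases hsqr with rfl | rfl
        · rw [mul_assoc]
          exact mul_dvd_mul_left _ (Dvd.dvd.mul_left hsm _)
        · rw [mul_comm (ordProj[q] n), mul_assoc]
          exact mul_dvd_mul_left _ (Dvd.dvd.mul_left hsm _)
      rw [← hm] at h2
      exact h2
    rw [← pow_succ] at h1
    exact (Nat.pow_succ_factorization_not_dvd h0 hs) h1
  obtain ⟨K, hK⟩ := S0003.result (G := G) (ordProj[q] n * ordProj[r] n) m (by rw [← hn, ← hm]) (by
    apply Nat.Coprime.mul_left
    · exact Nat.Coprime.pow_left _ ((Nat.Prime.coprime_iff_not_dvd hq).2 (hcop q hq (Or.inl rfl)))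
    · exact Nat.Coprime.pow_left _ ((Nat.Prime.coprime_iff_not_dvd hr).2 (hcop r hr (Or.inr rfl))))
  refine ⟨K, ?_, ?_, ?_⟩
  · rw [hK]; exact Dvd.dvd.mul_right hq1 _
  · rw [hK]; exact Dvd.dvd.mul_left hr1 _
  · intro s hs hsK
    rw [hK] at hsK
    rcases (Nat.Prime.dvd_mul hs).1 hsK with h | h
    · left; exact (Nat.prime_dvd_prime_iff_eq hs hq).1 (hs.dvd_of_dvd_pow h)
    · right; exact (Nat.prime_dvd_prime_iff_eq hs hr).1 (hs.dvd_of_dvd_pow h)

/-- the case of a minimal normal subgroup of exponent `p` -/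
theorem aux {G : Type*} [Group G] [Finite G] [Group.IsSolvable G] {p q r : ℕ} (hp : p.Prime)
    (hq : q.Prime) (hr : r.Prime) (hpq : p ≠ q) (hpr : p ≠ r) (hqr : q ≠ r) (N : Subgroup G)
    [N.Normal] (hN : N ≠ ⊥) (hNc : ∀ a ∈ N, ∀ b ∈ N, a * b = b * a) (hNp : ∀ a ∈ N, a ^ p = 1)
    (hqG : q ∣ Nat.card G) (hrG : r ∣ Nat.card G) :
    (∃ x : G, orderOf x = p * q) ∨ (∃ x : G, orderOf x = p * r) ∨ (∃ x : G, orderOf x = q * r) := by
  obtain ⟨K, hqK, hrK, hK⟩ := exists_hall hq hr hqr hqG hrG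
  have hKnt : Nontrivial K := by
    rw [← Finite.one_lt_card_iff_nontrivial]
    exact lt_of_lt_of_le hq.one_lt (Nat.le_of_dvd Nat.card_pos hqK)
  obtain ⟨M, hMn, hMb, hMmin⟩ := Lib.SubnormalJoin.exists_minimal_normal K
  obtain ⟨s, d, hs, hd, hMc, hMe⟩ :=
    SolvableStructure.MinimalNormal.exists_prime_of_minimal_normal M hMb hMmin
  let _ : CommGroup N := { (inferInstance : Group N) with
    mul_comm := fun a b => Subtype.ext (hNc a a.2 b b.2) }
  have hNnt : Nontrivial N := (Subgroup.nontrivial_iff_ne_bot N).2 hN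
  let φ : K →* MulAut N := (MulAut.conjNormal (H := N)).comp K.subtype
  have hφ : ∀ (x : K) (v : N), ((φ x v : N) : G) = x * v * (x : G)⁻¹ := fun _ _ => rfl
  have hV : ∀ v : N, v ^ p = 1 := fun v => Subtype.ext (by
    have := hNp v v.2
    simpa using this)
  have hfix : ∀ (t : ℕ) (_ : t.Prime) (_ : p ≠ t) (x : K) (v : N), orderOf x = t → v ≠ 1 → φ x v = v →
      ∃ z : G, orderOf z = p * t := by
    intro t ht hpt x v hx hv hxv
    have h1 : (x : G) * v * (x : G)⁻¹ = v := by rw [← hφ, hxv]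
    have h2 : Commute (v : G) (x : G) := by
      change (v : G) * x = x * v
      calc (v : G) * x = (x * v * (x : G)⁻¹) * x := by rw [h1]
        _ = x * v := by group
    have hvo : orderOf (v : G) = p := by
      have : Fact p.Prime := ⟨hp⟩
      rw [Subgroup.orderOf_coe]
      exact orderOf_eq_prime (hV v) hv
    exact ⟨v * x, orderOf_mul_primes hp ht hpt hvo (by rw [Subgroup.orderOf_coe]; exact hx) h2⟩
  have hsqr : s = q ∨ s = r := hK s hs (by
    have h1 : s ∣ Nat.card M := by rw [hMc]; exact dvd_pow_self s hd.ne'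
    exact h1.trans (Subgroup.card_subgroup_dvd_card M))
  rcases hsqr with rfl | rfl
  · have : Fact r.Prime := ⟨hr⟩
    obtain ⟨y, hy⟩ := exists_prime_orderOf_dvd_card' r hrK
    rcases core φ hp hs hr hpq hqr hV M hMb hMc hMe hy with ⟨x, hx⟩ | ⟨x, v, hx, hv, hxv⟩ |
      ⟨x, v, hx, hv, hxv⟩
    · right; right
      exact ⟨x, by rw [Subgroup.orderOf_coe]; exact hx⟩
    · left; exact hfix _ hs hpq x v hx hv hxv
    · right; left; exact hfix _ hr hpr x v hx hv hxv
  · have : Fact q.Prime := ⟨hq⟩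
    obtain ⟨y, hy⟩ := exists_prime_orderOf_dvd_card' q hqK
    rcases core φ hp hs hq hpr (Ne.symm hqr) hV M hMb hMc hMe hy with ⟨x, hx⟩ | ⟨x, v, hx, hv, hxv⟩ |
      ⟨x, v, hx, hv, hxv⟩
    · right; right
      exact ⟨x, by rw [Subgroup.orderOf_coe, hx, mul_comm]⟩
    · right; left; exact hfix _ hs hpr x v hx hv hxv
    · left; exact hfix _ hq hpq x v hx hv hxv

theorem main (n : ℕ) : ∀ (G : Type u) [Group G] [Finite G] [Group.IsSolvable G], Nat.card G = n →
    ∀ {p q r : ℕ}, p.Prime → q.Prime → r.Prime → p ≠ q → p ≠ r → q ≠ r →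
    p ∣ Nat.card G → q ∣ Nat.card G → r ∣ Nat.card G →
    (∃ x : G, orderOf x = p * q) ∨ (∃ x : G, orderOf x = p * r) ∨ (∃ x : G, orderOf x = q * r) := by
  induction n using Nat.strong_induction_on with
  | _ n ih =>
  intro G _ _ _ hn p q r hp hq hr hpq hpr hqr hpG hqG hrG
  have hnt : Nontrivial G := by
    rw [← Finite.one_lt_card_iff_nontrivial]
    exact lt_of_lt_of_le hp.one_lt (Nat.le_of_dvd Nat.card_pos hpG)
  obtain ⟨N, hNn, hNb, hmin⟩ := Lib.SubnormalJoin.exists_minimal_normal G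
  obtain ⟨t, d, ht, hd, hNc, hNe⟩ :=
    SolvableStructure.MinimalNormal.exists_prime_of_minimal_normal N hNb hmin
  have hcomm := SolvableStructure.MinimalNormal.comm_of_minimal_normal N hNb hmin
  by_cases htp : t = p
  · subst htp
    exact aux ht hq hr hpq hpr hqr N hNb hcomm hNe hqG hrG
  by_cases htq : t = q
  · subst htq
    rcases aux ht hp hr (Ne.symm hpq) hqr hpr N hNb hcomm hNe hpG hrG with ⟨x, hx⟩ | ⟨x, hx⟩ | ⟨x, hx⟩
    · left; exact ⟨x, by rw [hx, mul_comm]⟩
    · right; right; exact ⟨x, hx⟩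
    · right; left; exact ⟨x, hx⟩
  by_cases htr : t = r
  · subst htr
    rcases aux ht hp hq (Ne.symm hpr) (Ne.symm hqr) hpq N hNb hcomm hNe hpG hqG with
      ⟨x, hx⟩ | ⟨x, hx⟩ | ⟨x, hx⟩
    · right; left; exact ⟨x, by rw [hx, mul_comm]⟩
    · right; right; exact ⟨x, by rw [hx, mul_comm]⟩
    · left; exact ⟨x, hx⟩
  -- pass to the quotient
  have hlt : Nat.card (G ⧸ N) < n := by
    rw [← hn, Subgroup.card_eq_card_quotient_mul_card_subgroup N]
    have h1 : 1 < Nat.card N := by
      rw [Finite.one_lt_card_iff_nontrivial]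
      exact (Subgroup.nontrivial_iff_ne_bot N).2 hNb
    exact lt_mul_of_one_lt_right Nat.card_pos h1
  have hdiv : ∀ s : ℕ, s.Prime → t ≠ s → s ∣ Nat.card G → s ∣ Nat.card (G ⧸ N) := by
    intro s hs hts hsG
    rw [Subgroup.card_eq_card_quotient_mul_card_subgroup N] at hsG
    rcases (Nat.Prime.dvd_mul hs).1 hsG with h | h
    · exact h
    · rw [hNc] at h
      exact absurd ((Nat.prime_dvd_prime_iff_eq hs ht).1 (hs.dvd_of_dvd_pow h)).symm hts
  have hlift : ∀ m : ℕ, (∃ x : G ⧸ N, orderOf x = m) → ∃ x : G, orderOf x = m := by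
    rintro m ⟨x, rfl⟩
    exact exists_orderOf_of_surjective (QuotientGroup.mk' N) (QuotientGroup.mk'_surjective N) x
  have : Group.IsSolvable (G ⧸ N) := inferInstance
  rcases ih _ hlt (G ⧸ N) rfl hp hq hr hpq hpr hqr (hdiv p hp htp hpG) (hdiv q hq htq hqG)
    (hdiv r hr htr hrG) with h | h | h
  · left; exact hlift _ h
  · right; left; exact hlift _ h
  · right; right; exact hlift _ h

/-- **Lucido's lemma.** In a finite soluble group, among three distinct primes dividing the order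
there are two joined in the prime graph. -/
theorem lucido {G : Type*} [Group G] [Finite G] (hG : Group.IsSolvable G) {p q r : ℕ}
    (hp : p.Prime) (hq : q.Prime) (hr : r.Prime) (hpq : p ≠ q) (hpr : p ≠ r) (hqr : q ≠ r)
    (hpG : p ∣ Nat.card G) (hqG : q ∣ Nat.card G) (hrG : r ∣ Nat.card G) :
    (∃ x : G, orderOf x = p * q) ∨ (∃ x : G, orderOf x = p * r) ∨ (∃ x : G, orderOf x = q * r) :=
  main _ G rfl hp hq hr hpq hpr hqr hpG hqG hrG

end Cfsg.Agent.H431.Lucido
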