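import Mathlib
import Cfsg.Agent.H431.ExcChar
import Cfsg.Agent.Characters.Linear
set_option linter.all false

-- part: H431/AltSd
section
/-!
# Induced characters of a semidirect product `V ⋊ Q`

`V` is an additive group with an action of `Q`, `λ` an additive character of `V`, `C ≤ Q` a
subgroup stabilizing `λ` and `ψ` a linear character of `C`. We consider the character of `V ⋊ Q`
induced from `(1 - λ) ψ` on `V ⋊ C`, its inner products and its sums over classes.
-/

set_option autoImplicit false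

open Cfsg

namespace Cfsg.Agent.H431.Alt

open Cfsg.Agent.Characters.Core Cfsg.Agent.OddOrderCharacters.VChar
open Cfsg.Agent.H431.ExcChar Cfsg.Agent.OddOrderCharacters.IndRes

open scoped ComplexConjugate

/-- the semidirect product -/
@[ext]
structure Sd (V Q : Type*) where
  u : V
  M : Q
deriving DecidableEq

namespace Sd

variable {V Q : Type*} [AddCommGroup V] [Group Q] [DistribMulAction Q V]

instance : Mul (Sd V Q) := ⟨fun x y => ⟨x.u + x.M • y.u, x.M * y.M⟩⟩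
instance : One (Sd V Q) := ⟨⟨0, 1⟩⟩
instance : Inv (Sd V Q) := ⟨fun x => ⟨-(x.M⁻¹ • x.u), x.M⁻¹⟩⟩

@[simp] theorem mul_u (x y : Sd V Q) : (x * y).u = x.u + x.M • y.u := rfl
@[simp] theorem mul_M (x y : Sd V Q) : (x * y).M = x.M * y.M := rfl
omit [DistribMulAction Q V] in
@[simp] theorem one_u : (1 : Sd V Q).u = 0 := rfl
omit [DistribMulAction Q V] in
@[simp] theorem one_M : (1 : Sd V Q).M = 1 := rfl
@[simp] theorem inv_u (x : Sd V Q) : (x⁻¹).u = -(x.M⁻¹ • x.u) := rfl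
@[simp] theorem inv_M (x : Sd V Q) : (x⁻¹).M = x.M⁻¹ := rfl

instance : Group (Sd V Q) := Group.ofLeftAxioms
  (by intro x y z; ext1 <;> simp [mul_smul, smul_add, add_assoc, mul_assoc])
  (by intro x; ext1 <;> simp)
  (by intro x; ext1 <;> simp)

/-- the equivalence with the product type -/
def equivProd : Sd V Q ≃ V × Q where
  toFun x := (x.u, x.M)
  invFun p := ⟨p.1, p.2⟩
  left_inv _ := rfl
  right_inv _ := rfl

instance [Fintype V] [Fintype Q] : Fintype (Sd V Q) := Fintype.ofEquiv _ equivProd.symm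

omit [AddCommGroup V] [Group Q] [DistribMulAction Q V] in
theorem sum_eq [Fintype V] [Fintype Q] {A : Type*} [AddCommMonoid A] (F : Sd V Q → A) :
    ∑ x, F x = ∑ M : Q, ∑ u : V, F ⟨u, M⟩ := by
  rw [← equivProd.symm.sum_comp F, Fintype.sum_prod_type_right]
  rfl

omit [AddCommGroup V] [Group Q] [DistribMulAction Q V] in
theorem card_eq [Fintype V] [Fintype Q] : Nat.card (Sd V Q) = Nat.card V * Nat.card Q := by
  rw [Nat.card_congr equivProd, Nat.card_prod]

theorem conj_eq (x y : Sd V Q) : x⁻¹ * y * x =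
    ⟨x.M⁻¹ • (y.u + y.M • x.u - x.u), x.M⁻¹ * y.M * x.M⟩ := by
  ext1
  · simp only [mul_u, inv_u, mul_M, inv_M, smul_sub, smul_add, mul_smul]
    abel
  · simp

/-- the projection -/
def proj : Sd V Q →* Q where
  toFun x := x.M
  map_one' := rfl
  map_mul' _ _ := rfl

@[simp] theorem proj_apply (x : Sd V Q) : proj x = x.M := rfl

/-- the subgroup `V ⋊ C` -/
def SC (C : Subgroup Q) : Subgroup (Sd V Q) := C.comap proj

theorem mem_SC {C : Subgroup Q} {x : Sd V Q} : x ∈ (SC C : Subgroup (Sd V Q)) ↔ x.M ∈ C := Iff.rfl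

theorem card_SC [Finite V] [Finite Q] (C : Subgroup Q) :
    Nat.card (SC C : Subgroup (Sd V Q)) = Nat.card V * Nat.card C := by
  rw [← Nat.card_prod]
  exact Nat.card_congr
    { toFun := fun x => (x.1.u, ⟨x.1.M, x.2⟩)
      invFun := fun p => ⟨⟨p.1, p.2.1⟩, p.2.2⟩
      left_inv := fun _ => rfl
      right_inv := fun _ => rfl }

end Sd

section

variable {V Q : Type} [AddCommGroup V] [Group Q] [DistribMulAction Q V]

/-- a linear character `χ` of `C`, extended by zero, and a character of `V` stabilized by `C` -/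
structure LinDat (lam : AddChar V ℂ) (C : Subgroup Q) (χ : Q → ℂ) : Prop where
  stab : ∀ M ∈ C, ∀ u : V, lam (M • u) = lam u
  out : ∀ M, M ∉ C → χ M = 0
  mul : ∀ M ∈ C, ∀ N ∈ C, χ (M * N) = χ M * χ N
  one : χ 1 = 1

/-- the function `(1 - λ) χ` -/
noncomputable def af (lam : AddChar V ℂ) (χ : Q → ℂ) (x : Sd V Q) : ℂ := (1 - lam x.u) * χ x.M

variable {lam mu : AddChar V ℂ} {C C' : Subgroup Q} {χ χ' : Q → ℂ}

theorem LinDat.gen (h : LinDat lam C χ) :
    IsGeneralizedCharacter (Sd.SC C : Subgroup (Sd V Q)) (fun x => af lam χ x) := by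
  let f1 : (Sd.SC C : Subgroup (Sd V Q)) →* ℂ :=
    { toFun := fun x => χ x.1.M
      map_one' := h.one
      map_mul' := fun x y => h.mul _ x.2 _ y.2 }
  let f2 : (Sd.SC C : Subgroup (Sd V Q)) →* ℂ :=
    { toFun := fun x => lam x.1.u * χ x.1.M
      map_one' := by
        show lam 0 * χ 1 = 1
        rw [AddChar.map_zero_eq_one, h.one, one_mul]
      map_mul' := fun x y => by
        show lam (x.1.u + x.1.M • y.1.u) * χ (x.1.M * y.1.M) = _
        rw [AddChar.map_add_eq_mul, h.stab _ (Sd.mem_SC.1 x.2), h.mul _ (Sd.mem_SC.1 x.2) _ (Sd.mem_SC.1 y.2)]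
        ring }
  have e : (fun x : (Sd.SC C : Subgroup (Sd V Q)) => af lam χ x) =
      (fun x => ((f1.toHomUnits x : ℂˣ) : ℂ)) - (fun x => ((f2.toHomUnits x : ℂˣ) : ℂ)) := by
    funext x
    show (1 - lam x.1.u) * χ x.1.M = χ x.1.M - lam x.1.u * χ x.1.M
    ring
  rw [e]
  exact gen_sub (gen_of_irr (Cfsg.Agent.Characters.Linear.isIrrCharacter_hom _))
    (gen_of_irr (Cfsg.Agent.Characters.Linear.isIrrCharacter_hom _))

theorem LinDat.extend (h : LinDat lam C χ) (x : Sd V Q) :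
    extendByZero (Sd.SC C) (fun x => af lam χ x) x = af lam χ x := by
  by_cases hx : x ∈ (Sd.SC C : Subgroup (Sd V Q))
  · rw [extendByZero_of_mem _ _ hx]
  · rw [extendByZero_of_notMem _ _ hx, af, h.out _ (fun h' => hx (Sd.mem_SC.2 h')), mul_zero]

variable [Fintype V] [Fintype Q]

/-- the induced generalized character -/
noncomputable def th (lam : AddChar V ℂ) (C : Subgroup Q) (χ : Q → ℂ) : Sd V Q → ℂ :=
  indFun (Sd.SC C) (fun x => af lam χ x)

theorem LinDat.gen_th (h : LinDat lam C χ) : IsGeneralizedCharacter (Sd V Q) (th lam C χ) :=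
  isGeneralizedCharacter_indFun _ h.gen

theorem LinDat.th_apply (h : LinDat lam C χ) (y : Sd V Q) :
    th lam C χ y = ((Nat.card V : ℂ) * Nat.card C)⁻¹ * ∑ x : Sd V Q, af lam χ (x⁻¹ * y * x) := by
  rw [th, indFun_apply, Sd.card_SC]
  push_cast
  congr 1
  exact Finset.sum_congr rfl fun x _ => h.extend _

omit [Fintype Q] in
theorem LinDat.af_conj (h' : LinDat mu C' χ') (M N : Q) (u z : V) :
    af mu χ' ((⟨z, N⟩ : Sd V Q)⁻¹ * ⟨u, M⟩ * ⟨z, N⟩) = (1 - mu (N⁻¹ • u)) * χ' (N⁻¹ * M * N) := by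
  rw [Sd.conj_eq, af]
  by_cases hM : N⁻¹ * M * N ∈ C'
  · congr 2
    show mu (N⁻¹ • (u + M • z - z)) = mu (N⁻¹ • u)
    have e1 : N⁻¹ • (u + M • z - z) = N⁻¹ • u + (N⁻¹ * M * N) • (N⁻¹ • z) - N⁻¹ • z := by
      rw [smul_sub, smul_add, smul_smul, smul_smul]
      congr 2
      rw [mul_assoc, mul_assoc, mul_inv_cancel, mul_one]
    rw [e1, AddChar.map_sub_eq_div, AddChar.map_add_eq_mul, h'.stab _ hM, mul_div_assoc, div_self, mul_one]
    intro h0
    have := AddChar.map_add_eq_mul mu (N⁻¹ • z) (-(N⁻¹ • z))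
    rw [add_neg_cancel, AddChar.map_zero_eq_one, h0, zero_mul] at this
    exact one_ne_zero this
  · rw [h'.out _ hM, mul_zero, mul_zero]

/-- the conjugate of an additive character -/
noncomputable def cj (N : Q) (mu : AddChar V ℂ) : AddChar V ℂ :=
  mu.compAddMonoidHom (DistribSMul.toAddMonoidHom V N⁻¹)

omit [Fintype V] [Fintype Q] in
theorem cj_apply (N : Q) (mu : AddChar V ℂ) (u : V) : cj N mu u = mu (N⁻¹ • u) := rfl

omit [Fintype Q] in
theorem sum_lam [DecidableEq (AddChar V ℂ)] (hl : lam ≠ 0) (hm : mu ≠ 0) (N : Q) :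
    ∑ u : V, (1 - lam u) * conj (1 - mu (N⁻¹ • u)) =
      (Nat.card V : ℂ) * (1 + if lam = cj N mu then 1 else 0) := by
  classical
  have hcj : cj N mu ≠ 0 := by
    intro h
    apply hm
    rw [AddChar.eq_zero_iff] at h ⊢
    intro x
    have := h (N • x)
    rwa [cj_apply, inv_smul_smul] at this
  have h1 : ∀ u : V, (1 - lam u) * conj (1 - mu (N⁻¹ • u)) =
      1 - lam u - conj (cj N mu u) + (lam - cj N mu) u := by
    intro u
    rw [AddChar.sub_apply, AddChar.map_neg_eq_conj, cj_apply, map_sub, map_one]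
    ring
  rw [Finset.sum_congr rfl fun u _ => h1 u, Finset.sum_add_distrib, Finset.sum_sub_distrib,
    Finset.sum_sub_distrib, ← map_sum (starRingEnd ℂ), AddChar.sum_eq_ite, AddChar.sum_eq_ite,
    AddChar.sum_eq_ite, if_neg hl, if_neg hcj, Finset.sum_const, Finset.card_univ, nsmul_eq_mul,
    Nat.card_eq_fintype_card]
  by_cases he : lam = cj N mu
  · rw [if_pos he, if_pos (sub_eq_zero.2 he)]
    simp
    ring
  · rw [if_neg he, if_neg (fun h => he (sub_eq_zero.1 h))]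
    simp

omit [AddCommGroup V] [Group Q] [DistribMulAction Q V] [Fintype V] [Fintype Q] in
theorem sum_subgroup {G : Type*} [Group G] [Fintype G] (S : Subgroup G) [Fintype S] (F : G → ℂ)
    (hF : ∀ y, y ∉ S → F y = 0) : ∑ y : S, F y = ∑ y : G, F y := by
  classical
  have h1 : ∑ y ∈ Finset.univ.filter (fun y => y ∈ S), F y = ∑ y : S, F y :=
    Finset.sum_subtype _ (by simp) F
  rw [← h1]
  apply Finset.sum_subset (Finset.subset_univ _)
  intro y _ hy
  apply hF
  simpa using hy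

/-- the inner products -/
theorem inner_th [DecidableEq (AddChar V ℂ)] (h : LinDat lam C χ) (h' : LinDat mu C' χ')
    (hl : lam ≠ 0) (hm : mu ≠ 0) :
    classInner (th lam C χ) (th mu C' χ') = ((Nat.card C : ℂ) * Nat.card C')⁻¹ *
      ∑ N : Q, ∑ M : Q, χ M * conj (χ' (N⁻¹ * M * N)) * (1 + if lam = cj N mu then 1 else 0) := by
  classical
  have hcl : IsClassFunction (Sd V Q) (th mu C' χ') := gen_isClassFunction h'.gen_th
  have e0 : classInner (th lam C χ) (th mu C' χ') =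
      ((Nat.card V : ℂ) * Nat.card C)⁻¹ * ∑ y : Sd V Q, af lam χ y * conj (th mu C' χ' y) := by
    rw [th, Cfsg.Agent.S0150.classInner_indFun _ _ _ hcl, classInner_def, Sd.card_SC]
    push_cast
    congr 1
    exact sum_subgroup (Sd.SC C) (fun y => af lam χ y * conj (th mu C' χ' y)) (fun y hy => by
      rw [af, h.out _ (fun h' => hy (Sd.mem_SC.2 h')), mul_zero, zero_mul])
  have e1 : ∑ y : Sd V Q, af lam χ y * conj (th mu C' χ' y) =
      ((Nat.card V : ℂ) * Nat.card C')⁻¹ * ∑ x : Sd V Q, ∑ y : Sd V Q,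
        af lam χ y * conj (af mu χ' (x⁻¹ * y * x)) := by
    rw [Finset.sum_comm, Finset.mul_sum]
    refine Finset.sum_congr rfl fun y _ => ?_
    rw [h'.th_apply, map_mul, map_sum, map_inv₀, map_mul, Complex.conj_natCast, Complex.conj_natCast,
      ← Finset.mul_sum]
    ring
  have e2 : ∑ x : Sd V Q, ∑ y : Sd V Q, af lam χ y * conj (af mu χ' (x⁻¹ * y * x)) =
      (Nat.card V : ℂ) ^ 2 * ∑ N : Q, ∑ M : Q, χ M * conj (χ' (N⁻¹ * M * N)) *
        (1 + if lam = cj N mu then 1 else 0) := by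
    rw [Sd.sum_eq, Finset.mul_sum]
    refine Finset.sum_congr rfl fun N _ => ?_
    have e3 : ∀ z : V, ∑ y : Sd V Q, af lam χ y * conj (af mu χ' ((⟨z, N⟩ : Sd V Q)⁻¹ * y * ⟨z, N⟩)) =
        (Nat.card V : ℂ) * ∑ M : Q, χ M * conj (χ' (N⁻¹ * M * N)) *
        (1 + if lam = cj N mu then 1 else 0) := by
      intro z
      rw [Sd.sum_eq, Finset.mul_sum]
      refine Finset.sum_congr rfl fun M _ => ?_
      have e4 : ∀ u : V, af lam χ ⟨u, M⟩ *
          conj (af mu χ' ((⟨z, N⟩ : Sd V Q)⁻¹ * ⟨u, M⟩ * ⟨z, N⟩)) =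
          χ M * conj (χ' (N⁻¹ * M * N)) * ((1 - lam u) * conj (1 - mu (N⁻¹ • u))) := by
        intro u
        rw [h'.af_conj, af, map_mul]
        ring
      rw [Finset.sum_congr rfl fun u _ => e4 u, ← Finset.mul_sum, sum_lam hl hm]
      ring
    rw [Finset.sum_congr rfl fun z _ => e3 z, Finset.sum_const, Finset.card_univ, nsmul_eq_mul,
      Nat.card_eq_fintype_card]
    ring
  have hV : (Nat.card V : ℂ) ≠ 0 := Nat.cast_ne_zero.2 Nat.card_pos.ne'
  rw [e0, e1, e2]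
  field_simp

/-- the inner products with the trivial character -/
theorem inner_th_one (h : LinDat lam C χ) (hl : lam ≠ 0) :
    classInner (th lam C χ) 1 = (Nat.card C : ℂ)⁻¹ * ∑ M : Q, χ M := by
  classical
  rw [th, Cfsg.Agent.S0150.classInner_indFun _ _ _ (isIrr_isClassFunction isIrr_one), classInner_def,
    Sd.card_SC]
  have e1 : ∑ y : (Sd.SC C : Subgroup (Sd V Q)), af lam χ y * conj ((1 : Sd V Q → ℂ) y) =
      ∑ y : Sd V Q, af lam χ y := by
    rw [← sum_subgroup (Sd.SC C) (fun y => af lam χ y) (fun y hy => by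
      rw [af, h.out _ (fun h' => hy (Sd.mem_SC.2 h')), mul_zero])]
    exact Finset.sum_congr rfl fun y _ => by simp
  have e2 : ∑ y : Sd V Q, af lam χ y = (Nat.card V : ℂ) * ∑ M : Q, χ M := by
    rw [Sd.sum_eq, Finset.mul_sum]
    refine Finset.sum_congr rfl fun M _ => ?_
    simp only [af]
    rw [← Finset.sum_mul, Finset.sum_sub_distrib, AddChar.sum_eq_ite, if_neg hl, Finset.sum_const,
      Finset.card_univ, nsmul_eq_mul, Nat.card_eq_fintype_card]
    ring
  have hV : (Nat.card V : ℂ) ≠ 0 := Nat.cast_ne_zero.2 Nat.card_pos.ne'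
  rw [e1, e2]
  push_cast
  field_simp

end

end Cfsg.Agent.H431.Alt
end

-- part: H431/AltQ
section
/-!
# The rotation group of the cube as a group of signed permutations
-/

set_option autoImplicit false

namespace Cfsg.Agent.H431.Alt

open Equiv Equiv.Perm

/-- signed permutations of `Fin 3` -/
@[ext]
structure SP where
  e : Fin 3 → ℤˣ
  p : Perm (Fin 3)

namespace SP

instance : Mul SP := ⟨fun x y => ⟨fun j => x.e j * y.e (x.p⁻¹ j), x.p * y.p⟩⟩
instance : One SP := ⟨⟨fun _ => 1, 1⟩⟩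
instance : Inv SP := ⟨fun x => ⟨fun j => x.e (x.p j), x.p⁻¹⟩⟩

theorem mul_e (x y : SP) (j : Fin 3) : (x * y).e j = x.e j * y.e (x.p⁻¹ j) := rfl
theorem mul_p (x y : SP) : (x * y).p = x.p * y.p := rfl
theorem one_e (j : Fin 3) : (1 : SP).e j = 1 := rfl
theorem one_p : (1 : SP).p = 1 := rfl
theorem inv_e (x : SP) (j : Fin 3) : (x⁻¹).e j = x.e (x.p j) := rfl
theorem inv_p (x : SP) : (x⁻¹).p = x.p⁻¹ := rfl

instance : Group SP := Group.ofLeftAxioms
  (by
    intro x y z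
    ext1
    · funext j
      simp only [mul_e, mul_p, mul_inv_rev, Perm.mul_apply, mul_assoc]
    · simp only [mul_p, mul_assoc])
  (by
    intro x
    ext1
    · funext j
      simp [mul_e, one_e, one_p]
    · simp [mul_p, one_p])
  (by
    intro x
    ext1
    · funext j
      simp only [mul_e, inv_e, inv_p, inv_inv, one_e]
      exact Int.units_mul_self _
    · simp [mul_p, inv_p, one_p])

/-- the determinant -/
def det : SP →* ℤˣ where
  toFun x := (x.e 0 * x.e 1 * x.e 2) * sign x.p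
  map_one' := by simp [one_e, one_p]
  map_mul' x y := by
    have h : (x * y).e 0 * (x * y).e 1 * (x * y).e 2 = (x.e 0 * x.e 1 * x.e 2) * (y.e 0 * y.e 1 * y.e 2) := by
      have h1 : ∏ j, y.e (x.p⁻¹ j) = ∏ j, y.e j := Equiv.prod_comp (x.p⁻¹) y.e
      rw [Fin.prod_univ_three, Fin.prod_univ_three] at h1
      simp only [mul_e]
      rw [← h1]
      ac_rfl
    rw [h, mul_p, Perm.sign_mul]
    ac_rfl

/-- the equivalence with a product type -/
def equivProd : SP ≃ (Fin 3 → ℤˣ) × Perm (Fin 3) where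
  toFun x := (x.e, x.p)
  invFun p := ⟨p.1, p.2⟩
  left_inv _ := rfl
  right_inv _ := rfl

instance : DecidableEq SP := fun x y =>
  decidable_of_iff (x.e = y.e ∧ x.p = y.p) ⟨fun h => SP.ext h.1 h.2, fun h => by rw [h]; exact ⟨rfl, rfl⟩⟩

instance : Fintype SP := Fintype.ofEquiv _ equivProd.symm

/-- the action on `𝔽₃³` -/
instance : SMul SP (Fin 3 → ZMod 3) := ⟨fun x u j => ((x.e j : ℤ) : ZMod 3) * u (x.p⁻¹ j)⟩

theorem smul_apply (x : SP) (u : Fin 3 → ZMod 3) (j : Fin 3) :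
    (x • u) j = ((x.e j : ℤ) : ZMod 3) * u (x.p⁻¹ j) := rfl

instance : DistribMulAction SP (Fin 3 → ZMod 3) where
  one_smul u := by funext j; simp [smul_apply, one_e, one_p]
  mul_smul x y u := by
    funext j
    simp only [smul_apply, mul_e, mul_p, mul_inv_rev, Perm.mul_apply]
    push_cast
    ring
  smul_zero x := by funext j; simp [smul_apply]
  smul_add x u v := by funext j; simp [smul_apply, mul_add]

end SP

/-- the rotation group -/
abbrev Q : Type := {x : SP // x ∈ SP.det.ker}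

instance : DecidablePred (fun x : SP => x ∈ SP.det.ker) := fun x =>
  decidable_of_iff (SP.det x = 1) MonoidHom.mem_ker.symm

example : Group Q := inferInstance
example : Fintype Q := inferInstance
example : DecidableEq Q := inferInstance
example : DistribMulAction Q (Fin 3 → ZMod 3) := inferInstance

/-- rotation about the first axis -/
def w0 : Q := ⟨⟨![1, 1, -1], swap 1 2⟩, by decide⟩
/-- rotation of order 3 -/
def s0 : Q := ⟨⟨![1, 1, 1], finRotate 3⟩, by decide⟩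
/-- rotation of order 2 about an edge -/
def t0 : Q := ⟨⟨![1, 1, -1], swap 0 1⟩, by decide⟩
/-- flip -/
def v0 : Q := ⟨⟨![1, -1, -1], 1⟩, by decide⟩

theorem card_Q : Fintype.card Q = 24 := by decide +kernel

/-- the cyclic groups -/
def cU : Fin 4 → Q := ![1, w0, w0 * w0, w0 * w0 * w0]
def cV : Fin 3 → Q := ![1, s0, s0 * s0]
def cT : Fin 2 → Q := ![1, t0]

/-- the fixed linear forms -/
def lU : Fin 3 → ZMod 3 := ![1, 0, 0]
def lV : Fin 3 → ZMod 3 := ![1, 1, 1]
def lT : Fin 3 → ZMod 3 := ![1, 1, 0]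

/-- the coefficients of the Gram matrix -/
def W {m n : ℕ} (c : Fin m → Q) (l : Fin 3 → ZMod 3) (c' : Fin n → Q) (l' : Fin 3 → ZMod 3)
    (k : Fin m) (j : Fin n) : ℕ :=
  ∑ N : Q, if N⁻¹ * c k * N = c' j then (if l = N • l' then 2 else 1) else 0

end Cfsg.Agent.H431.Alt
end

-- part: H431/AltGram
section
/-!
# The Gram matrix of the exceptional characters of `3^3 : S_4`
-/

set_option autoImplicit false

open Cfsg

namespace Cfsg.Agent.H431.Alt

open Cfsg.Agent.Characters.Core Cfsg.Agent.OddOrderCharacters.VChar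
open Cfsg.Agent.H431.ExcChar Cfsg.Agent.OddOrderCharacters.IndRes

open scoped ComplexConjugate

/-- `𝔽₃³` -/
abbrev V3 : Type := Fin 3 → ZMod 3

/-- the scalar product -/
def dt (l u : V3) : ZMod 3 := l 0 * u 0 + l 1 * u 1 + l 2 * u 2

theorem dt_smul (N : SP) (l u : V3) : dt (N • l) (N • u) = dt l u := by
  have h1 : ∀ j, (N • l) j * (N • u) j = l (N.p⁻¹ j) * u (N.p⁻¹ j) := by
    intro j
    rw [SP.smul_apply, SP.smul_apply]
    have : (((N.e j : ℤ) : ZMod 3)) * ((N.e j : ℤ) : ZMod 3) = 1 := by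
      rcases Int.units_eq_one_or (N.e j) with h | h <;> rw [h] <;> decide
    linear_combination (l (N.p⁻¹ j) * u (N.p⁻¹ j)) * this
  have h2 : ∑ j, l (N.p⁻¹ j) * u (N.p⁻¹ j) = ∑ j, l j * u j :=
    Equiv.sum_comp (N.p⁻¹) (fun j => l j * u j)
  rw [dt, h1, h1, h1, dt]
  rw [Fin.sum_univ_three, Fin.sum_univ_three] at h2
  exact h2

/-- the scalar product as a homomorphism -/
def dtHom (l : V3) : V3 →+ ZMod 3 where
  toFun u := dt l u
  map_zero' := by simp [dt]
  map_add' u v := by simp only [dt, Pi.add_apply]; ring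

/-- the additive character of `𝔽₃³` -/
noncomputable def lam (l : V3) : AddChar V3 ℂ := (ZMod.stdAddChar (N := 3)).compAddMonoidHom (dtHom l)

theorem lam_apply (l u : V3) : lam l u = ZMod.stdAddChar (dt l u) := rfl

theorem lam_injective : Function.Injective lam := by
  intro l l' h
  have h1 : ∀ u, dt l u = dt l' u := by
    intro u
    apply ZMod.injective_stdAddChar
    rw [← lam_apply, ← lam_apply, h]
  funext j
  have h2 := h1 (Pi.single j 1)
  fin_cases j <;> simpa [dt] using h2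

theorem lam_zero : lam 0 = 0 := by
  ext u
  rw [lam_apply, AddChar.zero_apply]
  simp [dt]

theorem lam_ne {l : V3} (h : l ≠ 0) : lam l ≠ 0 := by
  rw [← lam_zero]
  exact fun h' => h (lam_injective h')

theorem cj_lam (N : Q) (l : V3) : cj N (lam l) = lam (N • l) := by
  ext u
  rw [cj_apply, lam_apply, lam_apply]
  congr 1
  have h1 : u = (N : SP) • (N⁻¹ • u : V3) := by
    show u = N • (N⁻¹ • u)
    rw [smul_inv_smul]
  conv_rhs => rw [h1]
  exact (dt_smul N l _).symm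

/-- a cyclic subgroup given by the list of its elements -/
structure Cyc {n : ℕ} [NeZero n] (c : Fin n → Q) (l : V3) (v : Fin n → ℂ) : Prop where
  inj : Function.Injective c
  zero : c 0 = 1
  add : ∀ i j, c (i + j) = c i * c j
  fix : ∀ i, c i • l = l
  v0 : v 0 = 1
  vadd : ∀ i j, v (i + j) = v i * v j
  ne : l ≠ 0

/-- the function on the group with given values on the cyclic subgroup -/
noncomputable def chi {n : ℕ} (c : Fin n → Q) (v : Fin n → ℂ) (M : Q) : ℂ :=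
  ∑ k, if M = c k then v k else 0

theorem sum_chi {n : ℕ} (c : Fin n → Q) (v : Fin n → ℂ) (F : Q → ℂ) :
    ∑ M, chi c v M * F M = ∑ k, v k * F (c k) := by
  simp only [chi, Finset.sum_mul]
  rw [Finset.sum_comm]
  refine Finset.sum_congr rfl fun k _ => ?_
  rw [Finset.sum_eq_single (c k)]
  · rw [if_pos rfl]
  · intro M _ hM
    rw [if_neg hM, zero_mul]
  · intro h; exact absurd (Finset.mem_univ _) h

namespace Cyc

variable {n : ℕ} [NeZero n] {c : Fin n → Q} {l : V3} {v : Fin n → ℂ}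

/-- the cyclic subgroup -/
def sub (h : Cyc c l v) : Subgroup Q where
  carrier := Set.range c
  one_mem' := ⟨0, h.zero⟩
  mul_mem' := by
    rintro _ _ ⟨i, rfl⟩ ⟨j, rfl⟩
    exact ⟨i + j, h.add i j⟩
  inv_mem' := by
    rintro _ ⟨i, rfl⟩
    refine ⟨-i, ?_⟩
    apply eq_inv_of_mul_eq_one_left
    rw [← h.add, neg_add_cancel, h.zero]

theorem mem_sub (h : Cyc c l v) {M : Q} : M ∈ h.sub ↔ ∃ i, c i = M := Iff.rfl

theorem card_sub (h : Cyc c l v) : Nat.card h.sub = n := by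
  have : Nat.card h.sub = Nat.card (Fin n) :=
    (Nat.card_congr (Equiv.ofInjective c h.inj)).symm
  rw [this, Nat.card_eq_fintype_card, Fintype.card_fin]

theorem chi_apply (h : Cyc c l v) (k : Fin n) : chi c v (c k) = v k := by
  rw [chi, Finset.sum_eq_single k]
  · rw [if_pos rfl]
  · intro j _ hj
    rw [if_neg (fun e => hj (h.inj e.symm))]
  · intro h; exact absurd (Finset.mem_univ _) h

theorem linDat (h : Cyc c l v) : LinDat (lam l) h.sub (chi c v) where
  stab := by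
    rintro _ ⟨i, rfl⟩ u
    rw [lam_apply, lam_apply]
    congr 1
    have h1 := dt_smul (c i) l u
    have h2 : ((c i : SP) • l : V3) = l := h.fix i
    rw [h2] at h1
    exact h1
  out := by
    intro M hM
    rw [chi]
    apply Finset.sum_eq_zero
    intro k _
    rw [if_neg]
    rintro rfl
    exact hM ⟨k, rfl⟩
  mul := by
    rintro _ ⟨i, rfl⟩ _ ⟨j, rfl⟩
    rw [← h.add, h.chi_apply, h.chi_apply, h.chi_apply, h.vadd]
  one := by rw [← h.zero, h.chi_apply, h.v0]

/-- the induced generalized character -/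
noncomputable def ch (h : Cyc c l v) : Sd V3 Q → ℂ := th (lam l) h.sub (chi c v)

theorem gen_ch (h : Cyc c l v) : IsGeneralizedCharacter (Sd V3 Q) h.ch := h.linDat.gen_th

theorem inner_ch (h : Cyc c l v) {n' : ℕ} [NeZero n'] {c' : Fin n' → Q} {l' : V3} {v' : Fin n' → ℂ}
    (h' : Cyc c' l' v') :
    classInner h.ch h'.ch = ((n : ℂ) * n')⁻¹ * ∑ k, ∑ j, v k * conj (v' j) * (W c l c' l' k j : ℂ) := by
  classical
  rw [ch, ch, inner_th h.linDat h'.linDat (lam_ne h.ne) (lam_ne h'.ne), h.card_sub, h'.card_sub]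
  congr 1
  have e1 : ∀ N : Q, ∑ M : Q, chi c v M * conj (chi c' v' (N⁻¹ * M * N)) *
      (1 + if lam l = cj N (lam l') then 1 else 0) =
      ∑ k, v k * (∑ j, if N⁻¹ * c k * N = c' j then conj (v' j) * (if l = N • l' then 2 else 1) else 0) := by
    intro N
    have e2 : (lam l = cj N (lam l')) ↔ l = N • l' := by
      rw [cj_lam]
      exact lam_injective.eq_iff
    have e3 : (1 + if lam l = cj N (lam l') then (1 : ℂ) else 0) = if l = N • l' then 2 else 1 := by
      by_cases h : l = N • l'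
      · rw [if_pos (e2.2 h), if_pos h]; norm_num
      · rw [if_neg (fun h' => h (e2.1 h')), if_neg h]; norm_num
    rw [e3]
    have e4 : ∀ M, chi c v M * conj (chi c' v' (N⁻¹ * M * N)) * (if l = N • l' then 2 else 1) =
        chi c v M * (conj (chi c' v' (N⁻¹ * M * N)) * (if l = N • l' then 2 else 1)) :=
      fun M => mul_assoc _ _ _
    rw [Finset.sum_congr rfl fun M _ => e4 M, sum_chi]
    refine Finset.sum_congr rfl fun k _ => ?_
    congr 1
    rw [chi, map_sum, Finset.sum_mul]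
    refine Finset.sum_congr rfl fun j _ => ?_
    by_cases hj : N⁻¹ * c k * N = c' j
    · rw [if_pos hj, if_pos hj]
    · rw [if_neg hj, if_neg hj, map_zero, zero_mul]
  rw [Finset.sum_congr rfl fun N _ => e1 N, Finset.sum_comm]
  refine Finset.sum_congr rfl fun k _ => ?_
  rw [← Finset.mul_sum, Finset.sum_comm, Finset.mul_sum]
  refine Finset.sum_congr rfl fun j _ => ?_
  rw [W]
  push_cast
  rw [mul_assoc]
  congr 1
  rw [Finset.mul_sum]
  refine Finset.sum_congr rfl fun N _ => ?_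
  split_ifs <;> ring

theorem inner_ch_one (h : Cyc c l v) : classInner h.ch 1 = (n : ℂ)⁻¹ * ∑ k, v k := by
  rw [ch, inner_th_one h.linDat (lam_ne h.ne), h.card_sub]
  congr 1
  have := sum_chi c v (fun _ => 1)
  simpa using this

end Cyc

end Cfsg.Agent.H431.Alt
end

-- part: H431/AltNsum
section
/-!
# The sums over pairs of involutions in `3^3 : S_4`
-/

set_option autoImplicit false

open Cfsg

namespace Cfsg.Agent.H431.Alt

open scoped ComplexConjugate

/-- the `(-1)`-eigenspace -/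
def EE (M : Q) : Finset V3 := Finset.univ.filter (fun u => M • u = -u)

/-- the involutions of the rotation group -/
def Tv : Finset Q := Finset.univ.filter (fun M => M * M = 1 ∧ M ≠ 1 ∧ M.1.p = 1)
def Tt : Finset Q := Finset.univ.filter (fun M => M * M = 1 ∧ M ≠ 1 ∧ M.1.p ≠ 1)
def Ti : Finset Q := Finset.univ.filter (fun M => M * M = 1 ∧ M ≠ 1)

theorem Tv_sub : Tv ⊆ Ti := by
  intro M hM
  rw [Tv, Finset.mem_filter] at hM
  rw [Ti, Finset.mem_filter]
  exact ⟨hM.1, hM.2.1, hM.2.2.1⟩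

theorem Tt_sub : Tt ⊆ Ti := by
  intro M hM
  rw [Tt, Finset.mem_filter] at hM
  rw [Ti, Finset.mem_filter]
  exact ⟨hM.1, hM.2.1, hM.2.2.1⟩

set_option maxRecDepth 100000 in
theorem EE_card : ∀ M ∈ Ti, (EE M).card = 9 := by decide +kernel

set_option maxRecDepth 100000 in
theorem EE_count : ∀ M ∈ Ti, ∀ l : V3, ∀ r : ZMod 3, ((EE M).filter (fun u => dt l u = r)).card =
    if M • l = l then (if r = 0 then 9 else 0) else 3 := by
  decide +kernel

theorem sum_zeta {A : Type*} (S : Finset A) (f : A → ZMod 3) :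
    ∑ u ∈ S, (ZMod.stdAddChar (f u) : ℂ) =
      ∑ r : ZMod 3, ((S.filter (fun u => f u = r)).card : ℂ) * ZMod.stdAddChar r := by
  rw [← Finset.sum_fiberwise S f]
  refine Finset.sum_congr rfl fun r _ => ?_
  rw [Finset.sum_congr rfl (fun u hu => by rw [(Finset.mem_filter.1 hu).2]), Finset.sum_const,
    nsmul_eq_mul]

theorem sum_std : ∑ r : ZMod 3, (ZMod.stdAddChar r : ℂ) = 0 := by
  have h : (ZMod.stdAddChar (N := 3)) ≠ 0 := by
    intro h
    have h1 : (ZMod.stdAddChar (1 : ZMod 3) : ℂ) = ZMod.stdAddChar (0 : ZMod 3) := by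
      rw [h]; simp
    exact absurd (ZMod.injective_stdAddChar h1) (by decide)
  classical
  rw [AddChar.sum_eq_ite, if_neg h]

/-- the sum of an additive character over the eigenspace -/
theorem sum_EE {M : Q} (hM : M ∈ Ti) (l : V3) :
    ∑ u ∈ EE M, lam l u = if M • l = l then 9 else 0 := by
  simp only [lam_apply]
  rw [sum_zeta, Finset.sum_congr rfl fun r _ => by rw [EE_count M hM l r]]
  by_cases h : M • l = l
  · simp only [if_pos h]
    rw [Finset.sum_eq_single 0]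
    · simp
    · intro r _ hr
      rw [if_neg hr]; simp
    · intro h; exact absurd (Finset.mem_univ _) h
  · simp only [if_neg h]
    rw [← Finset.mul_sum, sum_std, mul_zero]

theorem lam_smul (M : Q) (l u : V3) : lam l (M • u) = lam (M⁻¹ • l) u := by
  have := cj_lam M⁻¹ l
  rw [← this, cj_apply, inv_inv]

/-- the coefficients -/
def NN {n : ℕ} (T T' : Finset Q) (c : Fin n → Q) (l : V3) (k : Fin n) : ℕ :=
  ∑ M₁ ∈ T, ∑ M₂ ∈ T', if M₁ * M₂ = c k then
    (if M₁ • l = l ∧ M₂ • (M₁⁻¹ • l) = M₁⁻¹ • l then 0 else 1) else 0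

/-- **the sum over pairs of involutions** -/
theorem nsum {n : ℕ} {T T' : Finset Q} (hT : T ⊆ Ti) (hT' : T' ⊆ Ti) (c : Fin n → Q) (l : V3)
    (v : Fin n → ℂ) :
    ∑ M₁ ∈ T, ∑ u₁ ∈ EE M₁, ∑ M₂ ∈ T', ∑ u₂ ∈ EE M₂,
      af (lam l) (chi c v) ((⟨u₁, M₁⟩ : Sd V3 Q) * ⟨u₂, M₂⟩) =
      81 * ∑ k, v k * (NN T T' c l k : ℂ) := by
  have e1 : ∀ M₁ ∈ T, ∑ u₁ ∈ EE M₁, ∑ M₂ ∈ T', ∑ u₂ ∈ EE M₂,
      af (lam l) (chi c v) ((⟨u₁, M₁⟩ : Sd V3 Q) * ⟨u₂, M₂⟩) =
      ∑ M₂ ∈ T', chi c v (M₁ * M₂) * (81 *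
        (if M₁ • l = l ∧ M₂ • (M₁⁻¹ • l) = M₁⁻¹ • l then 0 else 1)) := by
    intro M₁ h1
    rw [Finset.sum_comm]
    refine Finset.sum_congr rfl fun M₂ h2 => ?_
    have e2 : ∀ u₁ ∈ EE M₁, ∀ u₂ ∈ EE M₂, af (lam l) (chi c v) ((⟨u₁, M₁⟩ : Sd V3 Q) * ⟨u₂, M₂⟩) =
        chi c v (M₁ * M₂) * (1 - lam l u₁ * lam (M₁⁻¹ • l) u₂) := by
      intro u₁ _ u₂ _
      rw [af, Sd.mul_u, Sd.mul_M, AddChar.map_add_eq_mul, lam_smul]
      ring
    rw [Finset.sum_congr rfl fun u₁ h => Finset.sum_congr rfl fun u₂ h' => e2 u₁ h u₂ h']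
    simp only [← Finset.mul_sum, Finset.sum_sub_distrib, Finset.sum_const, ← Finset.sum_mul]
    rw [sum_EE (hT h1), sum_EE (hT' h2), EE_card M₁ (hT h1), EE_card M₂ (hT' h2)]
    congr 1
    by_cases ha : M₁ • l = l
    · by_cases hb : M₂ • M₁⁻¹ • l = M₁⁻¹ • l
      · rw [if_pos ha, if_pos hb, if_pos ⟨ha, hb⟩]; norm_num
      · have hn : ¬ (M₁ • l = l ∧ M₂ • (M₁⁻¹ • l) = M₁⁻¹ • l) := fun h => hb h.2
        rw [if_neg hn, if_neg hb]; norm_num
    · have hn : ¬ (M₁ • l = l ∧ M₂ • (M₁⁻¹ • l) = M₁⁻¹ • l) := fun h => ha h.1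
      rw [if_neg hn, if_neg ha]; norm_num
  rw [Finset.sum_congr rfl e1]
  have e3 : ∀ M₁ M₂ : Q, chi c v (M₁ * M₂) * (81 *
        (if M₁ • l = l ∧ M₂ • (M₁⁻¹ • l) = M₁⁻¹ • l then 0 else 1)) =
      81 * ∑ k, v k * (if M₁ * M₂ = c k then
        (if M₁ • l = l ∧ M₂ • (M₁⁻¹ • l) = M₁⁻¹ • l then 0 else 1) else 0) := by
    intro M₁ M₂
    rw [chi, Finset.sum_mul, Finset.mul_sum]
    refine Finset.sum_congr rfl fun k _ => ?_
    by_cases h : M₁ * M₂ = c k
    · rw [if_pos h, if_pos h]; ring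
    · rw [if_neg h, if_neg h]; ring
  simp_rw [e3]
  simp_rw [← Finset.mul_sum]
  congr 1
  have e4 : ∀ M₁ ∈ T, ∑ M₂ ∈ T', ∑ k, v k * (if M₁ * M₂ = c k then
        (if M₁ • l = l ∧ M₂ • (M₁⁻¹ • l) = M₁⁻¹ • l then (0 : ℂ) else 1) else 0) =
      ∑ k, ∑ M₂ ∈ T', v k * (if M₁ * M₂ = c k then
        (if M₁ • l = l ∧ M₂ • (M₁⁻¹ • l) = M₁⁻¹ • l then 0 else 1) else 0) :=
    fun M₁ _ => Finset.sum_comm
  rw [Finset.sum_congr rfl e4, Finset.sum_comm]
  refine Finset.sum_congr rfl fun k _ => ?_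
  rw [NN]
  push_cast
  simp only [Finset.mul_sum]

end Cfsg.Agent.H431.Alt
end

-- part: H431/AltCl
section
/-!
# Classes of involutions and the elements with controlled fusion in `3^3 : S_4`
-/

set_option autoImplicit false

open Cfsg

namespace Cfsg.Agent.H431.Alt

open Cfsg.Agent.Characters.Core Cfsg.Agent.OddOrderCharacters.VChar
open Cfsg.Agent.H431.ExcChar Cfsg.Agent.OddOrderCharacters.IndRes

open scoped ComplexConjugate

/-- the model group -/
abbrev Md : Type := Sd V3 Q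

/-- elements having a nontrivial power in `V` -/
def DD (x : Md) : Prop := ∃ n : ℕ, (x ^ n).M = 1 ∧ x ^ n ≠ 1

theorem DD_conj {x : Md} (y : Md) (h : DD (y⁻¹ * x * y)) : DD x := by
  obtain ⟨n, h1, h2⟩ := h
  have h3 : (y⁻¹ * x * y) ^ n = y⁻¹ * x ^ n * y := by
    have := conj_pow (i := n) (a := y⁻¹) (b := x)
    rw [inv_inv] at this
    exact this
  refine ⟨n, ?_, ?_⟩
  · rw [h3] at h1
    simp only [Sd.mul_M, Sd.inv_M] at h1
    have h4 : (x ^ n).M = y.M * (y.M⁻¹ * (x ^ n).M * y.M) * y.M⁻¹ := by group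
    rw [h4, h1]; group
  · intro h4
    apply h2
    rw [h3, h4]; group

theorem three_eq_zero (u : V3) : u + u + u = 0 := by
  funext j
  simp only [Pi.add_apply, Pi.zero_apply]
  generalize u j = a
  revert a
  decide

theorem two_ne (u : V3) (h : u + u = 0) : u = 0 := by
  have := three_eq_zero u
  rwa [h, zero_add] at this

/-- the involutions above a set of involutions of the rotation group -/
def cl (T : Finset Q) : Finset Md := Finset.univ.filter (fun x => x.M ∈ T ∧ x * x = 1)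

theorem mem_cl {T : Finset Q} {x : Md} : x ∈ cl T ↔ x.M ∈ T ∧ x * x = 1 := by
  simp [cl]

theorem sq_eq_one {x : Md} : x * x = 1 ↔ x.M • x.u = -x.u ∧ x.M * x.M = 1 := by
  rw [Sd.ext_iff]
  simp only [Sd.mul_u, Sd.mul_M, Sd.one_u, Sd.one_M]
  rw [add_comm, add_eq_zero_iff_eq_neg]

theorem not_DD {x : Md} (h : x * x = 1) : ¬ DD x := by
  rintro ⟨n, h1, h2⟩
  rcases Nat.even_or_odd' n with ⟨m, rfl | rfl⟩
  · apply h2
    rw [pow_mul, pow_two, h, one_pow]
  · rw [pow_succ, pow_mul, pow_two, h, one_pow, one_mul] at h1 h2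
    obtain ⟨h3, -⟩ := sq_eq_one.1 h
    rw [h1, one_smul] at h3
    have h4 : x.u = 0 := two_ne _ (by nth_rewrite 1 [h3]; exact neg_add_cancel _)
    exact h2 (Sd.ext h4 h1)

theorem sum_cl {T : Finset Q} (hT : T ⊆ Ti) (F : Md → ℂ) :
    ∑ x ∈ cl T, F x = ∑ M ∈ T, ∑ u ∈ EE M, F ⟨u, M⟩ := by
  rw [Finset.sum_sigma']
  refine Finset.sum_bij' (fun x _ => ⟨x.M, x.u⟩) (fun p _ => ⟨p.2, p.1⟩) ?_ ?_ ?_ ?_ ?_
  · intro x hx
    rw [mem_cl, sq_eq_one] at hx
    simp only [Finset.mem_sigma, EE, Finset.mem_filter, Finset.mem_univ, true_and]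
    exact ⟨hx.1, hx.2.1⟩
  · intro p hp
    simp only [Finset.mem_sigma, EE, Finset.mem_filter, Finset.mem_univ, true_and] at hp
    rw [mem_cl, sq_eq_one]
    have := hT hp.1
    rw [Ti, Finset.mem_filter] at this
    exact ⟨hp.1, hp.2, this.2.1⟩
  · intro x _; rfl
  · intro p _; rfl
  · intro x _; rfl

set_option maxRecDepth 100000 in
theorem Tv_conj : ∀ M ∈ Tv, ∀ N : Q, N * M * N⁻¹ ∈ Tv := by decide +kernel
set_option maxRecDepth 100000 in
theorem Tt_conj : ∀ M ∈ Tt, ∀ N : Q, N * M * N⁻¹ ∈ Tt := by decide +kernel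
set_option maxRecDepth 100000 in
theorem Tv_trans : ∀ M ∈ Tv, ∃ N : Q, N * M * N⁻¹ = v0 := by decide +kernel
set_option maxRecDepth 100000 in
theorem Tt_trans : ∀ M ∈ Tt, ∃ N : Q, N * M * N⁻¹ = t0 := by decide +kernel
set_option maxRecDepth 100000 in
theorem inv_cases : ∀ M : Q, M * M = 1 → M ≠ 1 → M ∈ Tv ∨ M ∈ Tt := by decide +kernel
set_option maxRecDepth 100000 in
theorem v0_mem : v0 ∈ Tv := by decide +kernel
set_option maxRecDepth 100000 in
theorem t0_mem : t0 ∈ Tt := by decide +kernel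

/-- the two representatives -/
def xv : Md := ⟨0, v0⟩
def xt : Md := ⟨0, t0⟩

theorem conj_cl {T : Finset Q} (hT : ∀ M ∈ T, ∀ N : Q, N * M * N⁻¹ ∈ T) {x : Md} (hx : x ∈ cl T)
    (y : Md) : y * x * y⁻¹ ∈ cl T := by
  rw [mem_cl] at hx ⊢
  refine ⟨hT _ hx.1 _, ?_⟩
  calc y * x * y⁻¹ * (y * x * y⁻¹) = y * (x * x) * y⁻¹ := by group
    _ = 1 := by rw [hx.2]; group

theorem conj_zero {x : Md} (hx : x * x = 1) : (⟨x.u, 1⟩ : Md) * x * (⟨x.u, 1⟩ : Md)⁻¹ = ⟨0, x.M⟩ := by
  obtain ⟨h1, -⟩ := sq_eq_one.1 hx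
  ext1
  · simp only [Sd.mul_u, Sd.mul_M, Sd.inv_u, one_smul, inv_one, one_mul, smul_neg, h1, neg_neg]
    exact three_eq_zero _
  · simp

theorem trans_cl {T : Finset Q} {M₀ : Q} (hT : ∀ M ∈ T, ∃ N : Q, N * M * N⁻¹ = M₀) {x : Md}
    (hx : x ∈ cl T) : ∃ y : Md, y * x * y⁻¹ = ⟨0, M₀⟩ := by
  rw [mem_cl] at hx
  obtain ⟨N, hN⟩ := hT _ hx.1
  refine ⟨⟨0, N⟩ * ⟨x.u, 1⟩, ?_⟩
  have h1 := conj_zero hx.2
  calc (⟨0, N⟩ * ⟨x.u, 1⟩ : Md) * x * (⟨0, N⟩ * ⟨x.u, 1⟩ : Md)⁻¹ =
      ⟨0, N⟩ * ((⟨x.u, 1⟩ : Md) * x * (⟨x.u, 1⟩ : Md)⁻¹) * (⟨0, N⟩ : Md)⁻¹ := by group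
    _ = ⟨0, M₀⟩ := by
      rw [h1]
      ext1
      · simp
      · exact hN

theorem exists_cl {x : Md} (hx : x * x = 1) (hx1 : x ≠ 1) : x ∈ cl Tv ∨ x ∈ cl Tt := by
  obtain ⟨h1, h2⟩ := sq_eq_one.1 hx
  by_cases hM : x.M = 1
  · exfalso
    rw [hM, one_smul] at h1
    have h4 : x.u = 0 := two_ne _ (by nth_rewrite 1 [h1]; exact neg_add_cancel _)
    exact hx1 (Sd.ext h4 hM)
  · rcases inv_cases _ h2 hM with h | h
    · exact Or.inl (mem_cl.2 ⟨h, hx⟩)
    · exact Or.inr (mem_cl.2 ⟨h, hx⟩)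

theorem xv_mem : xv ∈ cl Tv := mem_cl.2 ⟨v0_mem, sq_eq_one.2 ⟨by simp [xv], by
  have := Tv_sub v0_mem
  rw [Ti, Finset.mem_filter] at this
  exact this.2.1⟩⟩

theorem xt_mem : xt ∈ cl Tt := mem_cl.2 ⟨t0_mem, sq_eq_one.2 ⟨by simp [xt], by
  have := Tt_sub t0_mem
  rw [Ti, Finset.mem_filter] at this
  exact this.2.1⟩⟩

theorem card_Md : Nat.card Md = 648 := by
  rw [Sd.card_eq, Nat.card_eq_fintype_card, Nat.card_eq_fintype_card, card_Q]
  simp

/-! ### sums of the induced characters over pairs of involutions -/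

theorem sum3 {A B X : Type*} [Fintype X] (s : Finset A) (t : Finset B) (F : X → A → B → ℂ) :
    ∑ p ∈ s, ∑ q ∈ t, ∑ x, F x p q = ∑ x, ∑ p ∈ s, ∑ q ∈ t, F x p q := by
  rw [Finset.sum_congr rfl fun p _ => Finset.sum_comm, Finset.sum_comm]

variable {n : ℕ} [NeZero n] {c : Fin n → Q} {l : V3} {v : Fin n → ℂ}

attribute [local irreducible] cl EE NN af

theorem Cyc.sum_ch (h : Cyc c l v) {T T' : Finset Q} (hT : T ⊆ Ti) (hT' : T' ⊆ Ti)
    (hc : ∀ M ∈ T, ∀ N : Q, N * M * N⁻¹ ∈ T) (hc' : ∀ M ∈ T', ∀ N : Q, N * M * N⁻¹ ∈ T') :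
    ∑ p ∈ cl T, ∑ q ∈ cl T', h.ch (p * q) = (24 * 81 / n) * ∑ k, v k * (NN T T' c l k : ℂ) := by
  have e1 : ∀ x : Md, ∑ p ∈ cl T, ∑ q ∈ cl T', af (lam l) (chi c v) (x⁻¹ * (p * q) * x) =
      ∑ p ∈ cl T, ∑ q ∈ cl T', af (lam l) (chi c v) (p * q) := by
    intro x
    refine Finset.sum_bij' (fun p _ => x⁻¹ * p * x) (fun p _ => x * p * x⁻¹) ?_ ?_ ?_ ?_ ?_
    · intro p hp
      have := conj_cl hc hp x⁻¹
      rwa [inv_inv] at this
    · intro p hp
      exact conj_cl hc hp x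
    · intro p _; group
    · intro p _; group
    · intro p _
      refine Finset.sum_bij' (fun p _ => x⁻¹ * p * x) (fun p _ => x * p * x⁻¹) ?_ ?_ ?_ ?_ ?_
      · intro p hp
        have := conj_cl hc' hp x⁻¹
        rwa [inv_inv] at this
      · intro p hp
        exact conj_cl hc' hp x
      · intro p _; group
      · intro p _; group
      · intro q _
        congr 1
        group
  have e2 : ∑ p ∈ cl T, ∑ q ∈ cl T', h.ch (p * q) = ((27 : ℂ) * n)⁻¹ * ∑ x : Md,
      ∑ p ∈ cl T, ∑ q ∈ cl T', af (lam l) (chi c v) (x⁻¹ * (p * q) * x) := by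
    have e3 : ∀ y, h.ch y = ((27 : ℂ) * n)⁻¹ * ∑ x : Md, af (lam l) (chi c v) (x⁻¹ * y * x) := by
      intro y
      rw [Cyc.ch, h.linDat.th_apply, h.card_sub, Nat.card_eq_fintype_card]
      congr 3
    rw [Finset.sum_congr rfl fun p _ => Finset.sum_congr rfl fun q _ => e3 (p * q)]
    simp only [← Finset.mul_sum]
    rw [sum3 (cl T) (cl T') (fun x p q => af (lam l) (chi c v) (x⁻¹ * (p * q) * x))]
  rw [e2, Finset.sum_congr rfl fun x _ => e1 x, Finset.sum_const, Finset.card_univ, nsmul_eq_mul,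
    ← Nat.card_eq_fintype_card, card_Md]
  have e4 : ∑ p ∈ cl T, ∑ q ∈ cl T', af (lam l) (chi c v) (p * q) =
      81 * ∑ k, v k * (NN T T' c l k : ℂ) := by
    rw [sum_cl hT]
    rw [← nsum hT hT' c l v]
    refine Finset.sum_congr rfl fun M _ => Finset.sum_congr rfl fun u _ => ?_
    rw [sum_cl hT']
  rw [e4]
  have hn : (n : ℂ) ≠ 0 := Nat.cast_ne_zero.2 (NeZero.ne n)
  field_simp
  ring

end Cfsg.Agent.H431.Alt
end
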