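import Mathlib
import Cfsg.Agent.Lib.Cores
import Cfsg.Agent.Lib.SubnormalJoin
import Cfsg.Agent.Lib.MinNormalNonabelian
import Cfsg.Agent.LieExceptional.CITBasic
import Cfsg.Agent.Lib.AutSL2
import Cfsg.Agent.Lib.AutSL2Out
import Cfsg.Agent.H431.Lucido
import Cfsg.Agent.S0205
import Cfsg.Agent.H331.SCExc
import Cfsg.Agent.OddCyclic.FFSz
import Cfsg.Agent.Lib.Zsigmondy
import Cfsg.Agent.FastGrp
import Cfsg.Agent.Prune
set_option linter.all false
prune_inst 0x7f00000000000000000000000000000000000000000000000000000000000000000000000000000000000000000000000000000000000000000000000000000000000000000000000000000000000000003fffffffffffffffffffffffffffbeffbdffffffff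
open scoped Cfsg.Agent.FastGrp

-- part: H431/CIT
section
/-!
# Non-soluble groups in which centralisers of involutions are 2-groups

If `G` is a finite non-soluble group with this property and `O₂(G) = 1`, then `G` has a simple
non-abelian normal subgroup with trivial centraliser.
-/

set_option autoImplicit false

universe u

namespace Cfsg.Agent.H431.CIT

open Subgroup Cfsg.Agent.LieExceptional.CITDefs

variable {G : Type u} [Group G]

/-- A group without elements of order `2 s`, `s` an odd prime, is a CIT-group. -/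
theorem isCIT_of_no_order [Finite G]
    (h : ∀ s : ℕ, s.Prime → s ≠ 2 → ¬ ∃ y : G, orderOf y = 2 * s) : IsCIT G := by
  intro t ht
  have h1 : ∀ {d : ℕ}, d.Prime → d ∣ Nat.card (centralizer ({t} : Set G)) → d = 2 := by
    intro d hd hdv
    by_contra hd2
    have : Fact d.Prime := ⟨hd⟩
    obtain ⟨y, hy⟩ := exists_prime_orderOf_dvd_card' d hdv
    have hy' : orderOf (y : G) = d := by rw [Subgroup.orderOf_coe]; exact hy
    have hc : Commute t (y : G) := by
      have := y.2
      rw [mem_centralizer_singleton_iff] at this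
      exact this.symm
    refine h d hd hd2 ⟨t * y, ?_⟩
    rw [hc.orderOf_mul_eq_mul_orderOf_of_coprime, ht, hy']
    rw [ht, hy']
    exact (Nat.coprime_primes Nat.prime_two hd).2 (Ne.symm hd2)
  have h2 : Nat.card (centralizer ({t} : Set G)) ≠ 0 := Nat.card_pos.ne'
  have h3 := Nat.eq_prime_pow_of_unique_prime_dvd h2 h1
  exact IsPGroup.of_card h3

theorem odd_card_of_coprime {H : Type*} [Group H] [Finite H] (h : ¬ 2 ∣ Nat.card H) : Odd (Nat.card H) := by
  rw [← Nat.not_even_iff_odd, even_iff_two_dvd]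
  exact h

/-- a 2-subgroup of odd order is trivial -/
theorem eq_bot_of_odd {H : Subgroup G} [Finite H] (h2 : IsPGroup 2 H) (ho : Odd (Nat.card H)) : H = ⊥ := by
  have : Fact (Nat.Prime 2) := ⟨Nat.prime_two⟩
  obtain ⟨n, hn⟩ := IsPGroup.iff_card.1 h2
  rw [hn] at ho
  have : n = 0 := by
    by_contra hn0
    exact (Nat.not_even_iff_odd.2 ho) ((Nat.even_pow' hn0).2 even_two)
  rw [this, pow_zero] at hn
  exact Subgroup.card_eq_one.1 hn

/-- An involution of a CIT group inverts a normal subgroup of odd order. -/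
theorem inverts [Finite G] (hG : IsCIT G) {N : Subgroup G} [hN : N.Normal] (hodd : Odd (Nat.card N))
    {z : G} (hz : orderOf z = 2) : ∀ n ∈ N, z * n * z⁻¹ = n⁻¹ := by
  have hzz : z * z = 1 := by
    have := pow_orderOf_eq_one z
    rwa [hz, pow_two] at this
  have hzi : z⁻¹ = z := inv_eq_of_mul_eq_one_left hzz
  let φ : N →* N := (MulAut.conjNormal z : MulAut N).toMonoidHom
  have hφ : ∀ n : N, ((φ n : N) : G) = z * n * z⁻¹ := fun n => rfl
  have hff : MonoidHom.FixedPointFree (φ : N → N) := by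
    intro n hn
    have h1 : z * (n : G) * z⁻¹ = n := by
      rw [← hφ, hn]
    have h2 : (n : G) ∈ centralizer ({z} : Set G) := by
      rw [mem_centralizer_singleton_iff]
      calc (n : G) * z = (z * n * z⁻¹) * z := by rw [h1]
        _ = z * n := by group
    obtain ⟨k, hk⟩ := hG z hz ⟨n, h2⟩
    have hk' : (n : G) ^ 2 ^ k = 1 := congrArg Subtype.val hk
    have h3 : orderOf n ∣ 2 ^ k := by
      rw [← Subgroup.orderOf_coe]
      exact orderOf_dvd_of_pow_eq_one hk'
    have h4 : orderOf n ∣ Nat.card N := orderOf_dvd_natCard n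
    have h5 : Nat.Coprime (2 ^ k) (Nat.card N) := Nat.Coprime.pow_left k hodd.coprime_two_left
    exact orderOf_eq_one_iff.1 (Nat.eq_one_of_dvd_coprimes h5 h3 h4)
  have hinv : Function.Involutive φ := by
    intro n
    apply Subtype.ext
    rw [hφ, hφ, hzi]
    calc z * (z * (n : G) * z) * z = (z * z) * n * (z * z) := by group
      _ = n := by rw [hzz]; group
  intro n hn
  have h1 := hff.coe_eq_inv_of_involutive hinv
  have h2 : φ ⟨n, hn⟩ = (⟨n, hn⟩ : N)⁻¹ := congrFun h1 ⟨n, hn⟩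
  have h3 := congrArg Subtype.val h2
  rw [hφ] at h3
  exact h3

/-- A CIT-group of even order with a non-trivial normal subgroup of odd order is soluble. -/
theorem solvable_of_odd [Finite G]
    (FT : ∀ (K : Type u) [Group K] [Finite K], Odd (Nat.card K) → Group.IsSolvable K)
    (hG : IsCIT G) {N : Subgroup G} [hN : N.Normal] (hodd : Odd (Nat.card N)) (hne : N ≠ ⊥)
    : Group.IsSolvable G := by
  by_cases hev : 2 ∣ Nat.card G
  swap
  · exact FT G (odd_card_of_coprime hev)
  have : Fact (Nat.Prime 2) := ⟨Nat.prime_two⟩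
  obtain ⟨z, hz⟩ := exists_prime_orderOf_dvd_card' 2 hev
  have hzz : z * z = 1 := by
    have := pow_orderOf_eq_one z
    rwa [hz, pow_two] at this
  have hzi : z⁻¹ = z := inv_eq_of_mul_eq_one_left hzz
  -- the centraliser of `N`
  set C : Subgroup G := centralizer (N : Set G) with hC
  have hCn : C.Normal := Subgroup.normal_centralizer
  have hCodd : Odd (Nat.card C) := by
    apply odd_card_of_coprime
    intro h2
    obtain ⟨t, ht⟩ := exists_prime_orderOf_dvd_card' 2 h2
    have ht' : orderOf (t : G) = 2 := by rw [Subgroup.orderOf_coe]; exact ht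
    have h3 : N ≤ centralizer ({(t : G)} : Set G) := by
      intro n hn
      rw [mem_centralizer_singleton_iff]
      exact mem_centralizer_iff.1 t.2 n hn
    apply hne
    refine eq_bot_of_odd ?_ hodd
    exact (hG _ ht').to_le h3
  -- every element is a product of an element of `C` and one of `C(z)`
  have hfac : ∀ g : G, ∃ d ∈ C, d⁻¹ * g ∈ centralizer ({z} : Set G) := by
    intro g
    set w : G := g * z * g⁻¹ with hw
    have hwo : orderOf w = 2 := by
      have h1 : MulAut.conj g z = w := rfl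
      rw [← h1, MulEquiv.orderOf_eq, hz]
    have hww : w * w = 1 := by
      have := pow_orderOf_eq_one w
      rwa [hwo, pow_two] at this
    set c : G := z * w with hc
    have hcC : c ∈ C := by
      rw [hC, mem_centralizer_iff]
      intro n hn
      have h1 := inverts hG hodd hwo n hn
      have h2 := inverts hG hodd hz n⁻¹ (N.inv_mem hn)
      have h3 : c * n * c⁻¹ = n := by
        calc c * n * c⁻¹ = z * (w * n * w⁻¹) * z⁻¹ := by rw [hc]; group
          _ = z * n⁻¹ * z⁻¹ := by rw [h1]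
          _ = n := by rw [h2, inv_inv]
      calc n * c = (c * n * c⁻¹) * c := by rw [h3]
        _ = c * n := by group
    have hco : Odd (orderOf c) := by
      have h1 : orderOf c ∣ Nat.card C := by
        have := orderOf_dvd_natCard (⟨c, hcC⟩ : C)
        rwa [Subgroup.orderOf_mk] at this
      exact Odd.of_dvd_nat hCodd h1
    obtain ⟨k, hk⟩ := hco
    have hzc : z * c * z⁻¹ = c⁻¹ := by
      rw [hc, mul_inv_rev, hzi, inv_eq_of_mul_eq_one_left hww]
      calc z * (z * w) * z = (z * z) * w * z := by group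
        _ = w * z := by rw [hzz, one_mul]
    have hzck : ∀ j : ℕ, z * c ^ j * z⁻¹ = (c ^ j)⁻¹ := by
      intro j
      have h1 : (z * c * z⁻¹) ^ j = z * c ^ j * z⁻¹ := conj_pow
      rw [← h1, hzc, inv_pow]
    have hpow : c ^ (2 * k + 1) = 1 := by rw [← hk]; exact pow_orderOf_eq_one c
    have hwz : w = z * c := by rw [hc, ← mul_assoc, hzz, one_mul]
    -- `c ^ k` conjugates `z` to `w`
    have hconj : c ^ k * z * (c ^ k)⁻¹ = w := by
      have h1 : z * (c ^ k)⁻¹ = c ^ k * z := by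
        have := hzck k
        calc z * (c ^ k)⁻¹ = z * (z * c ^ k * z⁻¹) := by rw [this]
          _ = (z * z) * c ^ k * z⁻¹ := by group
          _ = c ^ k * z := by rw [hzz, one_mul, hzi]
      have h2 : z * c = c⁻¹ * z := by
        calc z * c = (z * c * z⁻¹) * z := by group
          _ = c⁻¹ * z := by rw [hzc]
      rw [mul_assoc, h1, hwz, h2, ← mul_assoc, ← pow_add]
      congr 1
      rw [eq_inv_iff_mul_eq_one, ← pow_succ]
      rw [← hpow]
      congr 1
      ring
    refine ⟨c ^ k, C.pow_mem hcC k, ?_⟩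
    rw [mem_centralizer_singleton_iff]
    have h3 : g * z = c ^ k * z * (c ^ k)⁻¹ * g := by
      rw [hconj, hw]; group
    calc (c ^ k)⁻¹ * g * z = (c ^ k)⁻¹ * (g * z) := by group
      _ = (c ^ k)⁻¹ * (c ^ k * z * (c ^ k)⁻¹ * g) := by rw [h3]
      _ = z * ((c ^ k)⁻¹ * g) := by group
  -- solubility
  have hCs : Group.IsSolvable C := FT C hCodd
  have hZs : Group.IsSolvable (centralizer ({z} : Set G)) := by
    have h2 := hG z hz
    have : Group.IsNilpotent (centralizer ({z} : Set G)) := h2.isNilpotent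
    infer_instance
  have hQs : Group.IsSolvable (G ⧸ C) := by
    let f : centralizer ({z} : Set G) →* G ⧸ C :=
      (QuotientGroup.mk' C).comp (centralizer ({z} : Set G)).subtype
    have hf : Function.Surjective f := by
      intro x
      obtain ⟨g, rfl⟩ := QuotientGroup.mk_surjective x
      obtain ⟨d, hd, hdg⟩ := hfac g
      refine ⟨⟨d⁻¹ * g, hdg⟩, ?_⟩
      change (QuotientGroup.mk (d⁻¹ * g) : G ⧸ C) = QuotientGroup.mk g
      rw [QuotientGroup.eq]
      have : (d⁻¹ * g)⁻¹ * g = g⁻¹ * d * (g⁻¹)⁻¹ := by group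
      rw [this]
      exact hCn.conj_mem d hd g⁻¹
    exact Group.isSolvable_of_surjective hf
  exact (Group.isSolvable_iff_subgroup_quotient C).2 ⟨hCs, hQs⟩

/-- **The socle of a non-soluble CIT-group.** -/
theorem exists_simple [Finite G]
    (FT : ∀ (K : Type u) [Group K] [Finite K], Odd (Nat.card K) → Group.IsSolvable K)
    (hG : IsCIT G) (hns : ¬ Group.IsSolvable G) (hO : Cfsg.pCore 2 G = ⊥) :
    ∃ S : Subgroup G, S.Normal ∧ IsSimpleGroup S ∧ (∃ a b : S, a * b ≠ b * a) ∧
      centralizer (S : Set G) = ⊥ := by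
  have : Fact (Nat.Prime 2) := ⟨Nat.prime_two⟩
  have hnt : Nontrivial G := by
    by_contra h
    rw [not_nontrivial_iff_subsingleton] at h
    exact hns inferInstance
  obtain ⟨N, hN, hNb, hmin⟩ := Lib.SubnormalJoin.exists_minimal_normal G
  by_cases hab : ∀ x ∈ N, ∀ y ∈ N, Commute x y
  · exfalso
    obtain ⟨p, hp, hpN, -⟩ := Lib.MinNormalNonabelian.abelian_structure N hNb hmin hab
    by_cases hp2 : p = 2
    · subst hp2
      apply hNb
      rw [eq_bot_iff, ← hO]
      exact Lib.Cores.le_pCore hN hpN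
    · have hodd : Odd (Nat.card N) := by
        have : Fact p.Prime := ⟨hp⟩
        obtain ⟨n, hn⟩ := IsPGroup.iff_card.1 hpN
        rw [hn]
        exact (hp.odd_of_ne_two hp2).pow
      exact hns (solvable_of_odd FT hG hodd hNb)
  · obtain ⟨⟨T, hT⟩, -, hsup, hsimp, hcent, -⟩ :=
      Lib.MinNormalNonabelian.nonabelian_structure N hmin hab
    have hsT : IsSimpleGroup T := hsimp T hT
    have hTna : ∀ T' ∈ Lib.MinNormalNonabelian.minSet N, ¬ Group.IsSolvable T' := by
      intro T' hT' hs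
      have := hsimp T' hT'
      have hcomm := IsSimpleGroup.comm_iff_isSolvable.2 hs
      apply hT'.2.1
      rw [eq_bot_iff]
      intro x hx
      rw [mem_bot]
      exact hcent T' hT' x hx fun t ht => congrArg Subtype.val (hcomm ⟨x, hx⟩ ⟨t, ht⟩)
    -- an involution in `T`
    have hTe : 2 ∣ Nat.card T := by
      by_contra h
      exact hTna T hT (FT T (odd_card_of_coprime h))
    obtain ⟨t, ht⟩ := exists_prime_orderOf_dvd_card' 2 hTe
    have ht' : orderOf (t : G) = 2 := by rw [Subgroup.orderOf_coe]; exact ht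
    have huniq : ∀ T' ∈ Lib.MinNormalNonabelian.minSet N, T' = T := by
      intro T' hT'
      by_contra hne
      have hdisj : Disjoint T' T := by
        rw [disjoint_iff]
        have h1 := hT'.2.2.2 (T' ⊓ T) inf_le_left (Lib.MinNormal.le_normalizer_inf hT'.2.2.1 hT.2.2.1)
        rcases h1 with h1 | h1
        · exact h1
        · have h2 := hT.2.2.2 (T' ⊓ T) inf_le_right (Lib.MinNormal.le_normalizer_inf hT'.2.2.1 hT.2.2.1)
          rcases h2 with h2 | h2
          · exact h2
          · exact absurd (h1.symm.trans h2) hne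
      have h3 : T' ≤ centralizer ({(t : G)} : Set G) := by
        intro x hx
        rw [mem_centralizer_singleton_iff]
        exact (Lib.MinNormal.commute_of_disjoint (hT'.1.trans hT.2.2.1) (hT.1.trans hT'.2.2.1) hdisj
          hx t.2).eq
      have h4 : IsPGroup 2 T' := (hG _ ht').to_le h3
      have : Group.IsNilpotent T' := h4.isNilpotent
      exact hTna T' hT' inferInstance
    have hNT : N = T := by
      rw [← hsup]
      apply le_antisymm
      · exact sSup_le fun T' hT' => (huniq T' hT').le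
      · exact le_sSup hT
    subst hNT
    refine ⟨N, hN, hsT, ?_, ?_⟩
    · by_contra hcon
      push Not at hcon
      apply hab
      intro x hx y hy
      exact congrArg Subtype.val (hcon ⟨x, hx⟩ ⟨y, hy⟩)
    · rw [eq_bot_iff, ← hO]
      have : (centralizer (N : Set G)).Normal := Subgroup.normal_centralizer
      refine Lib.Cores.le_pCore this ?_
      refine (hG _ ht').to_le ?_
      intro x hx
      rw [mem_centralizer_singleton_iff]
      exact (mem_centralizer_iff.1 hx t t.2).symm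

end Cfsg.Agent.H431.CIT
end

-- part: H431/CITSocle
section
/-!
# The simple normal subgroup of a CIT-group

* `dvd_card_of_one_class`: if the involutions of the normal subgroup `S` form one `S`-class, then
  `G / S` is a 2-group.
* `eq_top_of_psl_two_even`: if `S ≅ PSL(2, 2^n)` is normal in the CIT-group `G`, then `S = G`.
-/

set_option autoImplicit false

universe u

namespace Cfsg.Agent.H431.CIT

open Subgroup Cfsg.Agent.LieExceptional.CITDefs Cfsg.Agent.Lib.SL2Mat

variable {G : Type u} [Group G]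

theorem isCIT_subgroup (hG : IsCIT G) (S : Subgroup G) : IsCIT S := by
  intro t ht
  have ht' : orderOf (t : G) = 2 := by rw [Subgroup.orderOf_coe]; exact ht
  rintro ⟨x, hx⟩
  have hx' : (x : G) ∈ centralizer ({(t : G)} : Set G) := by
    rw [mem_centralizer_singleton_iff] at hx ⊢
    exact congrArg Subtype.val hx
  obtain ⟨k, hk⟩ := hG _ ht' ⟨x, hx'⟩
  refine ⟨k, Subtype.ext (Subtype.ext ?_)⟩
  have := congrArg Subtype.val hk
  simpa using this

/-- Frattini argument: `G / S` is a 2-group when the involutions of `S` form one class. -/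
theorem isPGroup_quotient_of_one_class [Finite G] (hG : IsCIT G) (S : Subgroup G) [hS : S.Normal]
    {t : G} (ht : t ∈ S) (ht2 : orderOf t = 2)
    (hcl : ∀ s ∈ S, orderOf s = 2 → ∃ x ∈ S, x * t * x⁻¹ = s) : IsPGroup 2 (G ⧸ S) := by
  have hfac : ∀ g : G, ∃ x ∈ S, x⁻¹ * g ∈ centralizer ({t} : Set G) := by
    intro g
    have h1 : g * t * g⁻¹ ∈ S := hS.conj_mem t ht g
    have h2 : orderOf (g * t * g⁻¹) = 2 := by
      have : MulAut.conj g t = g * t * g⁻¹ := rfl
      rw [← this, MulEquiv.orderOf_eq, ht2]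
    obtain ⟨x, hx, hxt⟩ := hcl _ h1 h2
    refine ⟨x, hx, ?_⟩
    rw [mem_centralizer_singleton_iff]
    have h3 : x * t * x⁻¹ * g = g * t := by rw [hxt]; group
    calc x⁻¹ * g * t = x⁻¹ * (g * t) := by group
      _ = x⁻¹ * (x * t * x⁻¹ * g) := by rw [h3]
      _ = t * (x⁻¹ * g) := by group
  let f : centralizer ({t} : Set G) →* G ⧸ S :=
    (QuotientGroup.mk' S).comp (centralizer ({t} : Set G)).subtype
  have hf : Function.Surjective f := by
    intro y
    obtain ⟨g, rfl⟩ := QuotientGroup.mk_surjective y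
    obtain ⟨x, hx, hxg⟩ := hfac g
    refine ⟨⟨x⁻¹ * g, hxg⟩, ?_⟩
    change (QuotientGroup.mk (x⁻¹ * g) : G ⧸ S) = QuotientGroup.mk g
    rw [QuotientGroup.eq]
    have : (x⁻¹ * g)⁻¹ * g = g⁻¹ * x * (g⁻¹)⁻¹ := by group
    rw [this]
    exact hS.conj_mem x hx g⁻¹
  exact (hG t ht2).of_surjective f hf

theorem dvd_card_of_one_class [Finite G] (hG : IsCIT G) (S : Subgroup G) [hS : S.Normal]
    {t : G} (ht : t ∈ S) (ht2 : orderOf t = 2)
    (hcl : ∀ s ∈ S, orderOf s = 2 → ∃ x ∈ S, x * t * x⁻¹ = s) {r : ℕ} (hr : r.Prime)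
    (hr2 : r ≠ 2) (hrG : r ∣ Nat.card G) : r ∣ Nat.card S := by
  have : Fact (Nat.Prime 2) := ⟨Nat.prime_two⟩
  obtain ⟨n, hn⟩ := IsPGroup.iff_card.1 (isPGroup_quotient_of_one_class hG S ht ht2 hcl)
  rw [Subgroup.card_eq_card_quotient_mul_card_subgroup S, hn] at hrG
  rcases (Nat.Prime.dvd_mul hr).1 hrG with h | h
  · exact absurd ((Nat.prime_dvd_prime_iff_eq hr Nat.prime_two).1 (hr.dvd_of_dvd_pow h)) hr2
  · exact h

section psl

variable {F : Type*} [Field F]

/-- the element of order 3 with entries in the prime field -/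
def three (F : Type*) [Field F] : Matrix.SpecialLinearGroup (Fin 2) F :=
  mk 0 1 (-1) (-1) (by ring)

theorem three_pow : three F ^ 3 = 1 := by
  rw [pow_succ, pow_two]
  refine ext_ent ?_ ?_ ?_ ?_ <;> simp [three, ent_mul]

theorem three_ne_one : three F ≠ 1 := by
  intro h
  have := congrArg (fun x : Matrix.SpecialLinearGroup (Fin 2) F => ent x 0 1) h
  simp [three] at this

theorem fieldAut_three (σ : F ≃+* F) : fieldAut σ (three F) = three F := by
  refine ext_ent ?_ ?_ ?_ ?_ <;> simp [three]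

theorem fieldAut_up_one (σ : F ≃+* F) : fieldAut σ (up 1) = (up 1 : Matrix.SpecialLinearGroup (Fin 2) F) := by
  rw [fieldAut_up, map_one]

/-- A CIT-group with a normal subgroup isomorphic to `PSL(2, 2^n)` is that subgroup. -/
theorem eq_top_of_psl_two_even [Finite G] (hG : IsCIT G) (S : Subgroup G) [hS : S.Normal]
    [Finite F] [CharP F 2]
    (e : S ≃* Matrix.ProjectiveSpecialLinearGroup (Fin 2) F) : S = ⊤ := by
  let π : Matrix.SpecialLinearGroup (Fin 2) F →* S := e.symm.toMonoidHom.comp (QuotientGroup.mk' _)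
  have hπ : Function.Surjective π := e.symm.surjective.comp (QuotientGroup.mk'_surjective _)
  have hk : π.ker ≤ Subgroup.center (Matrix.SpecialLinearGroup (Fin 2) F) := by
    intro x hx
    have h1 : e.symm (QuotientGroup.mk' _ x) = 1 := hx
    rw [map_eq_one_iff e.symm e.symm.injective] at h1
    exact (QuotientGroup.eq_one_iff x).1 h1
  -- the two elements
  have h3 : π (three F) ^ 3 = 1 := by rw [← map_pow, three_pow, map_one]
  have h2 : π (up 1) ^ 2 = 1 := by
    rw [← map_pow]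
    have : (up 1 : Matrix.SpecialLinearGroup (Fin 2) F) ^ 2 = 1 := by
      rw [pow_two, up_mul]
      have : (1 : F) + 1 = 0 := CharTwo.add_self_eq_zero 1
      rw [this, up_zero]
    rw [this, map_one]
  have hcomm : three F * up 1 ≠ up 1 * three F := by
    intro h
    have := congrArg (fun x : Matrix.SpecialLinearGroup (Fin 2) F => ent x 0 0) h
    simp [three, ent_mul] at this
  have hnc : ∀ x ∈ Subgroup.center (Matrix.SpecialLinearGroup (Fin 2) F), x = 1 := by
    intro x hx
    rw [Matrix.SpecialLinearGroup.mem_center_iff] at hx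
    obtain ⟨r, hr, h⟩ := hx
    have hr1 : r = 1 := by
      have h4 : (r - 1) ^ 2 = 0 := by
        have h5 : r ^ 2 = 1 := by simpa using hr
        have h6 : (2 : F) = 0 := CharTwo.two_eq_zero
        linear_combination h5 - (r - 1) * h6
      have h7 : r - 1 = 0 := pow_eq_zero_iff (two_ne_zero) |>.1 h4
      linear_combination h7
    apply Subtype.ext
    rw [← h, hr1]
    simp
  have hinj : Function.Injective π := by
    rw [injective_iff_map_eq_one]
    intro x hx
    exact hnc x (hk hx)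
  have ho3 : orderOf (π (three F)) = 3 := by
    have : Fact (Nat.Prime 3) := ⟨Nat.prime_three⟩
    exact orderOf_eq_prime h3 fun h => three_ne_one (hinj (by rw [h, map_one]))
  have ho2 : orderOf (π (up 1)) = 2 := by
    have : Fact (Nat.Prime 2) := ⟨Nat.prime_two⟩
    refine orderOf_eq_prime h2 fun h => ?_
    have h4 : (up 1 : Matrix.SpecialLinearGroup (Fin 2) F) = 1 := hinj (by rw [h, map_one])
    apply hcomm
    rw [h4, one_mul, mul_one]
  rw [eq_top_iff]
  intro g _
  obtain ⟨A, σ, hα⟩ := Lib.AutSL2.exists_gl_ringEquiv π hπ hk (MulAut.conjNormal g)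
  obtain ⟨d, hd⟩ : ∃ d : F, A.1.det = d ^ 2 := by
    have : Fintype F := Fintype.ofFinite F
    obtain ⟨d, hd⟩ := FiniteField.isSquare_of_char_two (F := F) (ringChar.eq F 2).symm.symm A.1.det
    exact ⟨d, by rw [hd, pow_two]⟩
  have hdet : A.1.det ≠ 0 := (Matrix.GeneralLinearGroup.det A).ne_zero
  obtain ⟨s, hs⟩ := Lib.AutSL2Out.conjGL_of_det_sq A d (by rintro rfl; exact hdet (by rw [hd]; simp)) hd
  set g' : G := (π s : G)⁻¹ * g with hg'
  have hfix : ∀ x : Matrix.SpecialLinearGroup (Fin 2) F, fieldAut σ x = x → g' * (π x : G) = (π x : G) * g' := by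
    intro x hx
    have h4 := hα x
    rw [hx, hs, map_mul, map_mul, map_inv] at h4
    have h5 : g * (π x : G) * g⁻¹ = (π s : G) * (π x : G) * (π s : G)⁻¹ := congrArg Subtype.val h4
    rw [hg']
    calc (π s : G)⁻¹ * g * (π x : G) = (π s : G)⁻¹ * (g * (π x : G) * g⁻¹) * g := by group
      _ = (π s : G)⁻¹ * ((π s : G) * (π x : G) * (π s : G)⁻¹) * g := by rw [h5]
      _ = (π x : G) * ((π s : G)⁻¹ * g) := by group
  have hc2 := hfix (up 1) (fieldAut_up_one σ)
  have hc3 := hfix (three F) (fieldAut_three σ)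
  obtain ⟨k, hk2⟩ := hG (π (up 1) : G) (by rw [Subgroup.orderOf_coe]; exact ho2)
    ⟨g', by rw [mem_centralizer_singleton_iff]; exact hc2⟩
  have hk2' : g' ^ 2 ^ k = 1 := congrArg Subtype.val hk2
  have hg1 : g' = 1 := by
    refine LieExceptional.CITBasic.fpf hG (d := (π (three F) : G)) ?_ ?_ hk2' hc3.symm
    · rw [Subgroup.orderOf_coe, ho3]; decide
    · intro h
      have : orderOf (π (three F)) = 1 := by
        rw [← Subgroup.orderOf_coe, h, orderOf_one]
      omega
  have : g = (π s : G) := by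
    rw [hg', inv_mul_eq_one] at hg1
    exact hg1.symm
  rw [this]
  exact (π s).2

end psl

end Cfsg.Agent.H431.CIT
end

-- part: H431/CITData
section
/-!
# Groups whose prime graph has the isolated vertex 2

`data`: if the finite group `G` has no element of order `2 s` (`s` an odd prime) and has three
pairwise non-adjacent primes `2, r, s`, then `G / O₂(G)` has a simple normal subgroup with trivial
centraliser.
-/

set_option autoImplicit false

universe u

namespace Cfsg.Agent.H431.CIT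

open Subgroup Cfsg.Agent.LieExceptional.CITDefs

variable {G : Type u} [Group G] [Finite G]

theorem dvd_quotient_pCore {r : ℕ} (hr : r.Prime) (hr2 : r ≠ 2) :
    haveI := Lib.Cores.pCore_normal (G := G) 2
    r ∣ Nat.card (G ⧸ Cfsg.pCore 2 G) ↔ r ∣ Nat.card G := by
  have := Lib.Cores.pCore_normal (G := G) 2
  have : Fact (Nat.Prime 2) := ⟨Nat.prime_two⟩
  obtain ⟨n, hn⟩ := IsPGroup.iff_card.1 (Lib.Cores.pCore_isPGroup (G := G) 2)
  rw [Subgroup.card_eq_card_quotient_mul_card_subgroup (Cfsg.pCore 2 G), hn]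
  constructor
  · intro h; exact Dvd.dvd.mul_right h _
  · intro h
    rcases (Nat.Prime.dvd_mul hr).1 h with h | h
    · exact h
    · exact absurd ((Nat.prime_dvd_prime_iff_eq hr Nat.prime_two).1 (hr.dvd_of_dvd_pow h)) hr2

/-- The socle of `G / O₂(G)`. -/
theorem data (h2 : ∀ s : ℕ, s.Prime → s ≠ 2 → ¬ ∃ y : G, orderOf y = 2 * s) {r s : ℕ}
    (hr : r.Prime) (hs : s.Prime) (hr2 : r ≠ 2) (hs2 : s ≠ 2) (hrs : r ≠ s) (h2G : 2 ∣ Nat.card G)
    (hrG : r ∣ Nat.card G) (hsG : s ∣ Nat.card G) (hno : ¬ ∃ y : G, orderOf y = r * s) :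
    haveI := Lib.Cores.pCore_normal (G := G) 2
    IsCIT (G ⧸ Cfsg.pCore 2 G) ∧
    ∃ S : Subgroup (G ⧸ Cfsg.pCore 2 G), S.Normal ∧ IsSimpleGroup S ∧ (∃ a b : S, a * b ≠ b * a) ∧
      centralizer (S : Set (G ⧸ Cfsg.pCore 2 G)) = ⊥ ∧ 2 ∣ Nat.card S := by
  have hn := Lib.Cores.pCore_normal (G := G) 2
  have hCIT : IsCIT G := isCIT_of_no_order h2
  have hns : ¬ Group.IsSolvable G := by
    intro hsol
    rcases Lucido.lucido hsol Nat.prime_two hr hs (Ne.symm hr2) (Ne.symm hs2) hrs h2G hrG hsG with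
      h | h | h
    · exact h2 r hr hr2 h
    · exact h2 s hs hs2 h
    · exact hno h
  have hp := Lib.Cores.pCore_isPGroup (G := G) 2
  have : Fact (Nat.Prime 2) := ⟨Nat.prime_two⟩
  have hQ : IsCIT (G ⧸ Cfsg.pCore 2 G) := LieExceptional.CITFFAux.quotient_isCIT hCIT _ hp
  have hQs : ¬ Group.IsSolvable (G ⧸ Cfsg.pCore 2 G) := by
    intro hsol
    apply hns
    have h3 : Group.IsNilpotent (Cfsg.pCore 2 G) := hp.isNilpotent
    exact (Group.isSolvable_iff_subgroup_quotient (Cfsg.pCore 2 G)).2 ⟨inferInstance, hsol⟩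
  refine ⟨hQ, ?_⟩
  obtain ⟨S, h3, h4, h5, h6⟩ := exists_simple (fun K _ _ hK => Cfsg.Agent.S0205.result hK) hQ hQs
    (Lib.Cores.pCore_quotient_pCore 2)
  refine ⟨S, h3, h4, h5, h6, ?_⟩
  by_contra h2S
  obtain ⟨a, b, hab⟩ := h5
  have hsol : Group.IsSolvable S := Cfsg.Agent.S0205.result (odd_card_of_coprime h2S)
  exact hab ((IsSimpleGroup.comm_iff_isSolvable.2 hsol) a b)

/-- the Suzuki case -/
theorem one_class_suzuki {H : Type u} [Group H] [Finite H] (S : Subgroup H) [hS : S.Normal]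
    (h : Cfsg.Lie.IsoSuzuki S) (h2 : 2 ∣ Nat.card S) :
    ∃ t ∈ S, orderOf t = 2 ∧ ∀ s ∈ S, orderOf s = 2 → ∃ x ∈ S, x * t * x⁻¹ = s := by
  have : Fact (Nat.Prime 2) := ⟨Nat.prime_two⟩
  obtain ⟨t, ht⟩ := exists_prime_orderOf_dvd_card' 2 h2
  refine ⟨t, t.2, by rw [Subgroup.orderOf_coe]; exact ht, fun s hs hs2 => ?_⟩
  have key : ∀ a : S, orderOf a = 2 → a * a = 1 ∧ a ≠ 1 := by
    intro a ha
    refine ⟨?_, ?_⟩
    · rw [← pow_two, ← ha]; exact pow_orderOf_eq_one a
    · rintro rfl; rw [orderOf_one] at ha; omega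
  obtain ⟨h3, h4⟩ := key t ht
  obtain ⟨h5, h6⟩ := key ⟨s, hs⟩ (by rw [← Subgroup.orderOf_coe]; exact hs2)
  obtain ⟨g, hg⟩ := OddCyclic.FFSz.conj_inv h h3 h4 h5 h6
  exact ⟨g, g.2, congrArg Subtype.val hg⟩

end Cfsg.Agent.H431.CIT
end

-- part: H431/Arith
section
/-!
# Arithmetic of `2 ^ n ± 1`
-/

set_option autoImplicit false

namespace Cfsg.Agent.H431.Arith

/-- primitive prime divisors of `2 ^ (2 m) - 1` -/
theorem exists_w {m : ℕ} (hm : 4 ≤ m) :
    ∃ w : ℕ, w.Prime ∧ (∀ j, w ∣ 2 ^ j - 1 ↔ 2 * m ∣ j) ∧ 9 ≤ w := by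
  obtain ⟨w, hw, h1, h2, -⟩ := Lib.Zsigmondy.exists_primitive (a := 2) (n := 2 * m) le_rfl
    (by omega) (by omega) (by omega)
  refine ⟨w, hw, h1, ?_⟩
  have h3 := hw.two_le
  have h4 := Nat.le_of_dvd (by omega) h2
  omega

theorem two_pow_sub_dvd {a b : ℕ} (h : a ∣ b) : 2 ^ a - 1 ∣ 2 ^ b - 1 := by
  obtain ⟨c, rfl⟩ := h
  rw [pow_mul]
  exact Nat.sub_one_dvd_pow_sub_one _ _

/-- `2 ^ k - 1 ∣ 2 ^ n - 1` implies `k ∣ n`. -/
theorem dvd_of_two_pow_sub_dvd {k n : ℕ} (h : 2 ^ k - 1 ∣ 2 ^ n - 1) : k ∣ n := by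
  have h1 : Nat.gcd (2 ^ k - 1) (2 ^ n - 1) = 2 ^ Nat.gcd k n - 1 := Nat.pow_sub_one_gcd_pow_sub_one 2 k n
  rw [Nat.gcd_eq_left h] at h1
  have h2 : 2 ^ k = 2 ^ Nat.gcd k n := by
    have h3 : 1 ≤ 2 ^ k := Nat.one_le_two_pow
    have h4 : 1 ≤ 2 ^ Nat.gcd k n := Nat.one_le_two_pow
    omega
  have h5 : k = Nat.gcd k n := Nat.pow_right_injective le_rfl h2
  exact Nat.gcd_eq_left_iff_dvd.1 h5.symm

/-- primes dividing `2^a 3^b 5^c 7^d` are at most 7 -/
theorem le_seven {w : ℕ} (hw : w.Prime) {a b c d : ℕ} (h : w ∣ 2 ^ a * 3 ^ b * 5 ^ c * 7 ^ d) : w ≤ 7 := by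
  have hx : ∀ {p k : ℕ}, p.Prime → w ∣ p ^ k → w = p := fun hp h =>
    (Nat.prime_dvd_prime_iff_eq hw hp).1 (hw.dvd_of_dvd_pow h)
  rcases (Nat.Prime.dvd_mul hw).1 h with h | h
  · rcases (Nat.Prime.dvd_mul hw).1 h with h | h
    · rcases (Nat.Prime.dvd_mul hw).1 h with h | h
      · have := hx Nat.prime_two h; omega
      · have := hx Nat.prime_three h; omega
    · have := hx Nat.prime_five h; omega
  · have := hx (by norm_num : Nat.Prime 7) h; omega

/-- The Fermat prime case: `r = 2 ^ k + 1` prime and the odd primes of `(2 ^ k + 1) (2 ^ (k-1) + 1)`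
are those of `2 ^ (2 m) - 1`. -/
theorem no_fermat {m k : ℕ} (hm : 4 ≤ m) (hk : 2 ≤ k) (hr : (2 ^ k + 1).Prime)
    (h1 : 2 ^ k + 1 ∣ 2 ^ (2 * m) - 1)
    (h2 : ∀ s : ℕ, s.Prime → s ≠ 2 → s ∣ 2 ^ (2 * m) - 1 → s ∣ (2 ^ k + 1) * (2 ^ (k - 1) + 1)) :
    False := by
  obtain ⟨w, hw, hwj, hw9⟩ := exists_w hm
  have hww := h2 w hw (by omega) ((hwj (2 * m)).2 dvd_rfl)
  -- `k ∣ m`
  have hkm : k ∣ m := by
    have h3 : (2 ^ k + 1).gcd (2 ^ k - 1) = 1 := by
      have h4 : (2 ^ k + 1).gcd (2 ^ k - 1) ∣ 2 := by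
        have h5 := Nat.dvd_sub (Nat.gcd_dvd_left (2 ^ k + 1) (2 ^ k - 1)) (Nat.gcd_dvd_right (2 ^ k + 1) (2 ^ k - 1))
        have h6 : 2 ^ k + 1 - (2 ^ k - 1) = 2 := by
          have : 1 ≤ 2 ^ k := Nat.one_le_two_pow
          omega
        rwa [h6] at h5
      rcases (Nat.dvd_prime Nat.prime_two).1 h4 with h5 | h5
      · exact h5
      · exfalso
        have h6 := Nat.gcd_dvd_left (2 ^ k + 1) (2 ^ k - 1)
        rw [h5] at h6
        have h7 : 2 ∣ 2 ^ k := dvd_pow_self 2 (by omega)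
        have h8 : 2 ∣ 1 := (Nat.dvd_add_right h7).1 h6
        omega
    -- the gcd of `2k` and `2m`
    have h4 : (2 ^ (2 * k) - 1).gcd (2 ^ (2 * m) - 1) = 2 ^ (Nat.gcd (2 * k) (2 * m)) - 1 :=
      Nat.pow_sub_one_gcd_pow_sub_one 2 _ _
    rw [Nat.gcd_mul_left] at h4
    have h5 : 2 ^ k + 1 ∣ 2 ^ (2 * k) - 1 := by
      have : 2 ^ (2 * k) - 1 = (2 ^ k + 1) * (2 ^ k - 1) := by
        rw [mul_comm 2 k, pow_mul]
        exact Nat.sq_sub_sq _ 1
      rw [this]
      exact dvd_mul_right _ _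
    have h6 : 2 ^ k + 1 ∣ 2 ^ (2 * Nat.gcd k m) - 1 := by
      rw [← h4]; exact Nat.dvd_gcd h5 h1
    have hg0 : 0 < Nat.gcd k m := Nat.gcd_pos_of_pos_left _ (by omega)
    have h7 : 2 ^ k + 1 ≤ 2 ^ (2 * Nat.gcd k m) - 1 := Nat.le_of_dvd (by
      have : 2 ^ 1 ≤ 2 ^ (2 * Nat.gcd k m) := Nat.pow_le_pow_right (by norm_num) (by omega)
      omega) h6
    have h8 : k < 2 * Nat.gcd k m := by
      by_contra hcon
      push Not at hcon
      have : 2 ^ (2 * Nat.gcd k m) ≤ 2 ^ k := Nat.pow_le_pow_right (by norm_num) hcon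
      have h9 : 1 ≤ 2 ^ k := Nat.one_le_two_pow
      omega
    obtain ⟨c, hc⟩ := Nat.gcd_dvd_left k m
    have hc1 : c = 1 := by
      have hc2 : c < 2 := by
        by_contra hcon
        push Not at hcon
        have : 2 * Nat.gcd k m ≤ k := by
          calc 2 * Nat.gcd k m ≤ c * Nat.gcd k m := Nat.mul_le_mul_right _ hcon
            _ = k := by rw [mul_comm]; exact hc.symm
        omega
      have hc0 : c ≠ 0 := by
        rintro rfl
        rw [mul_zero] at hc
        omega
      omega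
    rw [hc1, mul_one] at hc
    exact Nat.gcd_eq_left_iff_dvd.1 hc.symm
  have hmk : k ≤ m := Nat.le_of_dvd (by omega) hkm
  rcases (Nat.Prime.dvd_mul hw).1 hww with h3 | h3
  · -- `k = m`
    have h4 : w ∣ 2 ^ (2 * k) - 1 := by
      have : 2 ^ (2 * k) - 1 = (2 ^ k + 1) * (2 ^ k - 1) := by
        rw [mul_comm 2 k, pow_mul]
        exact Nat.sq_sub_sq _ 1
      rw [this]
      exact Dvd.dvd.mul_right h3 _
    have h5 := (hwj _).1 h4
    have h6 := Nat.le_of_dvd (by omega) h5
    have hkm' : k = m := by omega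
    subst hkm'
    -- all primes of `2 ^ k - 1` are 3
    have h7 : ∀ s : ℕ, s.Prime → s ∣ 2 ^ k - 1 → s = 3 := by
      intro s hs hsk
      have hs2 : s ≠ 2 := by
        rintro rfl
        have h8 : 2 ∣ 2 ^ k := dvd_pow_self 2 (by omega)
        have : 1 ≤ 2 ^ k := Nat.one_le_two_pow
        omega
      have h8 := h2 s hs hs2 (hsk.trans (two_pow_sub_dvd (Dvd.intro_left 2 rfl)))
      rcases (Nat.Prime.dvd_mul hs).1 h8 with h9 | h9
      · exfalso
        apply hs2
        have h10 := Nat.dvd_sub h9 hsk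
        have h11 : 2 ^ k + 1 - (2 ^ k - 1) = 2 := by
          have : 1 ≤ 2 ^ k := Nat.one_le_two_pow
          omega
        rw [h11] at h10
        exact (Nat.prime_dvd_prime_iff_eq hs Nat.prime_two).1 h10
      · have h10 := Nat.dvd_sub (Dvd.dvd.mul_left h9 2) hsk
        have h11 : 2 * (2 ^ (k - 1) + 1) - (2 ^ k - 1) = 3 := by
          obtain ⟨j, rfl⟩ : ∃ j, k = j + 1 := ⟨k - 1, by omega⟩
          rw [Nat.add_sub_cancel, pow_succ]
          have : 1 ≤ 2 ^ j := Nat.one_le_two_pow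
          omega
        rw [h11] at h10
        exact (Nat.prime_dvd_prime_iff_eq hs Nat.prime_three).1 h10
    have h8 : 2 ^ k - 1 ≠ 0 := by
      have : 2 ^ 1 ≤ 2 ^ k := Nat.pow_le_pow_right (by norm_num) (by omega)
      omega
    have h9 := Nat.eq_prime_pow_of_unique_prime_dvd h8 (fun {d} hd h => h7 d hd h)
    -- modulo 8
    have h10 : ∀ j : ℕ, 3 ^ j % 8 = 1 ∨ 3 ^ j % 8 = 3 := by
      intro j
      induction j with
      | zero => left; norm_num
      | succ j ih =>
        rw [pow_succ, Nat.mul_mod]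
        rcases ih with h | h <;> rw [h] <;> norm_num
    have h11 := h10 ((2 ^ k - 1).primeFactorsList.length)
    rw [← h9] at h11
    have h12 : 8 ∣ 2 ^ k := by
      have : (8 : ℕ) = 2 ^ 3 := by norm_num
      rw [this]
      exact pow_dvd_pow 2 (by omega)
    omega
  · have h4 : w ∣ 2 ^ (2 * (k - 1)) - 1 := by
      have : 2 ^ (2 * (k - 1)) - 1 = (2 ^ (k - 1) + 1) * (2 ^ (k - 1) - 1) := by
        rw [mul_comm 2 (k - 1), pow_mul]
        exact Nat.sq_sub_sq _ 1
      rw [this]
      exact Dvd.dvd.mul_right h3 _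
    have h5 := (hwj _).1 h4
    have h6 := Nat.le_of_dvd (by omega) h5
    omega

/-- The Mersenne prime case. -/
theorem no_mersenne {m k : ℕ} (hm : 4 ≤ m) (hk : 2 ≤ k) (hr : (2 ^ k - 1).Prime)
    (h1 : 2 ^ k - 1 ∣ 2 ^ (2 * m) - 1)
    (h2 : ∀ s : ℕ, s.Prime → s ≠ 2 → s ∣ 2 ^ (2 * m) - 1 → s ∣ (2 ^ k - 1) * (2 ^ (k - 1) - 1)) :
    False := by
  obtain ⟨w, hw, hwj, hw9⟩ := exists_w hm
  have hww := h2 w hw (by omega) ((hwj (2 * m)).2 dvd_rfl)
  have hkm : k ∣ 2 * m := dvd_of_two_pow_sub_dvd h1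
  have hkm' := Nat.le_of_dvd (by omega) hkm
  rcases (Nat.Prime.dvd_mul hw).1 hww with h3 | h3
  · have h4 := Nat.le_of_dvd (by omega) ((hwj _).1 h3)
    have h5 : k = 2 * m := by omega
    subst h5
    have h6 : 2 ^ (2 * m) - 1 = (2 ^ m + 1) * (2 ^ m - 1) := by
      rw [mul_comm 2 m, pow_mul]
      exact Nat.sq_sub_sq _ 1
    rw [h6] at hr
    have h7 : 2 ^ 4 ≤ 2 ^ m := Nat.pow_le_pow_right (by norm_num) hm
    rcases Nat.prime_mul_iff.1 hr with ⟨-, h⟩ | ⟨-, h⟩ <;> omega
  · have h4 := Nat.le_of_dvd (by omega) ((hwj _).1 h3)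
    omega

end Cfsg.Agent.H431.Arith
end

private theorem dce_dc1ec41b5095 : _root_.True := by
  try have : _root_.True := by simp only [_root_.Cfsg.Agent.H431.CIT.three.eq_1]
  exact _root_.True.intro
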